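import Mathlib
import Cfsg.Agent.S1079
import Cfsg.Agent.H51.Tools
import Cfsg.Prelude.Def_LieTwisted

/-!
# The threefold cover of `²E₆(q)`, `3 ∣ q + 1`

The preimage `Y` of `²E₆(q)` in the group presented by Steinberg's relations of type `E₆` over the field with `q²`
elements. The element `z` of order 3 of its centre is `h₁(ω) h₆(ω^q) h₃(ω²) h₅(ω^{2q})`; it is a product of twisted
root elements, which are elements of order `p`, and so it lies in the commutator subgroup of `Y`.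
-/

set_option autoImplicit false

namespace Cfsg.Agent.H59.ESixCover

open Cfsg.Lie Cfsg.Agent.ChevalleyStructure.StBasic Cfsg.Agent.ChevalleyStructure.StTorus
  Cfsg.Agent.ChevalleyStructure.StCenter Cfsg.Agent.ChevalleyStructure.StEmbed Cfsg.Agent.S1079
  Cfsg.Agent.H51.Mult Cfsg.Agent.H51.Tools

universe u

/-- The torus of the universal group of type `E₆`. -/
theorem exists_torus (K : Type*) [Field K] :
    ∃ Φ : (Fin chevE6.rank → Kˣ) →* chevE6.SteinbergGroup K,
      (∀ (i : Fin chevE6.rank) (x : Kˣ), Φ (Pi.mulSingle i x) = sth chevE6 (chevE6.simple i) (x : K)) ∧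
      Function.Injective Φ ∧
      (∀ t, Φ t ∈ Subgroup.center (chevE6.SteinbergGroup K) ↔
        ∀ s < chevE6.nroots, ∏ i : Fin chevE6.rank, t i ^ chevE6.cartan i s = 1) := by
  obtain ⟨Φ, hΦ, hle, hiff⟩ := exists_Phi K chevE6 (by simp)
  obtain ⟨Φ', hΦ', -, hiff'⟩ := exists_Phi K chevE7 (by simp)
  obtain ⟨hs, -, -⟩ := data chevE6 (by simp)
  obtain ⟨hs', -, -⟩ := data chevE7 (by simp)
  have hinj : Function.Injective Φ := Phi_injective emb67 hs simple67 (by decide)
    hs' ![![-2, 1, -1, 0, 0, 0], ![-4, 2, -2, 0, 0, 0], ![-5, 2, -2, 0, 0, 0], ![-8, 3, -4, 0, 0, 0],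
      ![-7, 2, -4, -1, 0, 0], ![-6, 1, -4, -2, -1, 0], ![-5, 0, -4, -3, -2, -1]] (by decide +kernel)
    Φ hΦ Φ' hΦ' hiff'
  exact ⟨Φ, hΦ, hinj, hiff⟩

section Pair

variable {K : Type u} [Field K]

/-- Root elements of orthogonal roots commute in the presented group. -/
theorem commute_stGen {r s : ℕ} (hr : r < chevE6.nroots) (hs : s < chevE6.nroots) (hne : s ≠ r)
    (hneg : s ≠ chevE6.neg r) (h0 : chevE6.commTerms r s = []) (t u : K) :
    Commute (chevE6.stGen K r t) (chevE6.stGen K s u) := by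
  have h1 := stGen_mul_stGen chevE6 hr hs hne hneg t u
  have h2 : chevE6.commWord K r s t u = [] := by
    unfold ChevalleyDatum.commWord
    rw [h0]; rfl
  rw [h2, wd_nil, mul_one] at h1
  exact h1.symm

/-- The data of a pair of orthogonal roots interchanged by the graph automorphism. -/
structure IsPair (a b a' b' : ℕ) : Prop where
  na : chevE6.neg a = a'
  nb : chevE6.neg b = b'
  na' : chevE6.neg a' = a
  nb' : chevE6.neg b' = b
  lt : a < chevE6.nroots ∧ b < chevE6.nroots ∧ a' < chevE6.nroots ∧ b' < chevE6.nroots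
  ne : b ≠ a ∧ b ≠ a' ∧ b' ≠ a ∧ b' ≠ a'
  c1 : chevE6.commTerms a b = []
  c2 : chevE6.commTerms a b' = []
  c3 : chevE6.commTerms a' b = []
  c4 : chevE6.commTerms a' b' = []

/-- The twisted root element in the presented group. -/
def tw (K : Type u) [Field K] (φ : K →+* K) (a b : ℕ) (t : K) : chevE6.SteinbergGroup K :=
  chevE6.stGen K a t * chevE6.stGen K b (φ t)

variable {φ : K →+* K} {a b a' b' : ℕ}

theorem IsPair.comm (h : IsPair a b a' b') : ∀ x ∈ [a, a'], ∀ y ∈ [b, b'], ∀ t u : K,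
    Commute (chevE6.stGen K x t) (chevE6.stGen K y u) := by
  intro x hx y hy t u
  simp only [List.mem_cons, List.not_mem_nil, or_false] at hx hy
  obtain ⟨l1, l2, l3, l4⟩ := h.lt
  obtain ⟨n1, n2, n3, n4⟩ := h.ne
  rcases hx with rfl | rfl <;> rcases hy with rfl | rfl
  · exact commute_stGen l1 l2 n1 (by rw [h.na]; exact n2) h.c1 t u
  · exact commute_stGen l1 l4 n3 (by rw [h.na]; exact n4) h.c2 t u
  · exact commute_stGen l3 l2 n2 (by rw [h.na']; exact n1) h.c3 t u
  · exact commute_stGen l3 l4 n4 (by rw [h.na']; exact n3) h.c4 t u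

theorem IsPair.tw_mul (h : IsPair a b a' b') (t u : K) : tw K φ a b t * tw K φ a b u = tw K φ a b (t + u) := by
  have h1 := h.comm (K := K) a (by simp) b (by simp) u (φ t)
  unfold tw
  rw [map_add, ← stGen_mul, ← stGen_mul, mul_assoc, ← mul_assoc (chevE6.stGen K b (φ t)), ← h1.eq]
  simp only [mul_assoc]

theorem IsPair.tw_pow (h : IsPair a b a' b') (n : ℕ) (t : K) : tw K φ a b t ^ n = tw K φ a b (n * t) := by
  induction n with
  | zero =>
    rw [pow_zero, Nat.cast_zero, zero_mul]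
    unfold tw
    rw [map_zero, stGen_zero, stGen_zero, mul_one]
  | succ n ih => rw [pow_succ, ih, h.tw_mul, Nat.cast_succ, add_mul, one_mul]

theorem IsPair.tw_pow_p (h : IsPair a b a' b') (p : ℕ) [CharP K p] (t : K) : tw K φ a b t ^ p = 1 := by
  rw [h.tw_pow, CharP.cast_eq_zero, zero_mul]
  unfold tw
  rw [map_zero, stGen_zero, stGen_zero, mul_one]

/-- `n̄_a(t) n̄_b(φ t)` as a product of twisted root elements. -/
theorem IsPair.stn_mul (h : IsPair a b a' b') (t : K) : stn chevE6 a t * stn chevE6 b (φ t) =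
    tw K φ a b t * tw K φ a' b' (-t⁻¹) * tw K φ a b t := by
  have h1 := h.comm (K := K)
  rw [stn_eq, stn_eq, h.na, h.nb]
  unfold tw
  rw [map_neg, map_inv₀]
  have c1 := h1 a (by simp) b (by simp) t (φ t)
  have c2 := h1 a (by simp) b' (by simp) t (-(φ t)⁻¹)
  have c3 := h1 a' (by simp) b (by simp) (-t⁻¹) (φ t)
  generalize chevE6.stGen K a t = A at *
  generalize chevE6.stGen K a' (-t⁻¹) = A' at *
  generalize chevE6.stGen K b (φ t) = B at *
  generalize chevE6.stGen K b' (-(φ t)⁻¹) = B' at *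
  calc A * A' * A * (B * B' * B) = A * A' * (A * B) * (B' * B) := by group
    _ = A * A' * (B * A) * (B' * B) := by rw [c1.eq]
    _ = A * (A' * B) * (A * B') * B := by group
    _ = A * (B * A') * (B' * A) * B := by rw [c3.eq, c2.eq]
    _ = A * B * (A' * B') * (A * B) := by group

/-- `h̄_a(t) h̄_b(φ t)` as a product of twisted root elements. -/
theorem IsPair.sth_mul' (h : IsPair a b a' b') (t : K) : sth chevE6 a t * sth chevE6 b (φ t) =
    (tw K φ a b t * tw K φ a' b' (-t⁻¹) * tw K φ a b t) *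
      (tw K φ a b 1 * tw K φ a' b' (-1⁻¹) * tw K φ a b 1)⁻¹ := by
  rw [← h.stn_mul, ← h.stn_mul, sth_eq, sth_eq, map_one]
  have h1 := h.comm (K := K)
  have key : ∀ u v : K, Commute (stn chevE6 a u) (stn chevE6 b v) := by
    intro u v
    rw [stn_eq, stn_eq, h.na, h.nb]
    have c1 := fun t s => h1 a (by simp) b (by simp) t s
    have c2 := fun t s => h1 a (by simp) b' (by simp) t s
    have c3 := fun t s => h1 a' (by simp) b (by simp) t s
    have c4 := fun t s => h1 a' (by simp) b' (by simp) t s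
    exact (((c1 _ _).mul_right (c2 _ _)).mul_right (c1 _ _)).mul_left
      (((c3 _ _).mul_right (c4 _ _)).mul_right (c3 _ _)) |>.mul_left
      (((c1 _ _).mul_right (c2 _ _)).mul_right (c1 _ _))
  have c5 := (key 1 (φ t)).inv_left
  have c6 := (key 1 1)
  calc stn chevE6 a t * (stn chevE6 a 1)⁻¹ * (stn chevE6 b (φ t) * (stn chevE6 b 1)⁻¹)
      = stn chevE6 a t * ((stn chevE6 a 1)⁻¹ * stn chevE6 b (φ t)) *
        (stn chevE6 b 1)⁻¹ := by group
    _ = stn chevE6 a t * (stn chevE6 b (φ t) * (stn chevE6 a 1)⁻¹) *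
        (stn chevE6 b 1)⁻¹ := by rw [c5.eq]
    _ = stn chevE6 a t * stn chevE6 b (φ t) *
        (stn chevE6 b 1 * stn chevE6 a 1)⁻¹ := by group
    _ = _ := by rw [c6.eq]

end Pair

theorem pair16 : IsPair 56 36 15 35 := by
  constructor <;> decide +kernel

theorem pair35 : IsPair 42 37 29 34 := by
  constructor <;> decide +kernel

theorem pair16' : IsPair 15 35 56 36 := by
  constructor <;> decide +kernel

theorem pair35' : IsPair 29 34 42 37 := by
  constructor <;> decide +kernel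

/-- The centre of the preimage. -/
theorem mem_center_of {K : Type u} [Field K] {Φ : (Fin chevE6.rank → Kˣ) →* chevE6.SteinbergGroup K}
    (hiff : ∀ t, Φ t ∈ Subgroup.center (chevE6.SteinbergGroup K) ↔
        ∀ s < chevE6.nroots, ∏ i : Fin chevE6.rank, t i ^ chevE6.cartan i s = 1) {ω : Kˣ} (hω : ω ^ 3 = 1)
    (k : Fin chevE6.rank → ℤ)
    (hk : ∀ s < chevE6.nroots, (3 : ℤ) ∣ ∑ i : Fin chevE6.rank, k i * chevE6.cartan i s) :
    Φ (fun i => ω ^ k i) ∈ Subgroup.center (chevE6.SteinbergGroup K) := by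
  rw [hiff]
  intro s hs
  obtain ⟨e, he⟩ := hk s hs
  have h1 : ∏ i : Fin chevE6.rank, (ω ^ k i) ^ chevE6.cartan i s = ω ^ (∑ i : Fin chevE6.rank, k i * chevE6.cartan i s) := by
    have h2 : ∀ i : Fin chevE6.rank, (ω ^ k i) ^ chevE6.cartan i s = ω ^ (k i * chevE6.cartan i s) := fun i => by
      rw [zpow_mul]
    rw [Finset.prod_congr rfl fun i _ => h2 i]
    induction (Finset.univ : Finset (Fin chevE6.rank)) using Finset.induction_on with
    | empty => simp
    | insert a s' ha ih => rw [Finset.prod_insert ha, Finset.sum_insert ha, ih, zpow_add]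
  rw [h1, he, zpow_mul]
  have h3 : ω ^ (3 : ℤ) = 1 := by
    have := zpow_natCast ω 3
    rw [hω] at this
    exact this
  rw [h3, one_zpow]

theorem finite_of_ker {G H : Type*} [Group G] [Group H] [Finite H] (f : G →* H) [Finite f.ker] : Finite G := by
  have : Finite (G ⧸ f.ker) := Finite.of_injective (QuotientGroup.kerLift f) (QuotientGroup.kerLift_injective f)
  refine Nat.finite_of_card_ne_zero ?_
  rw [Subgroup.card_eq_card_quotient_mul_card_subgroup f.ker]
  exact Nat.mul_ne_zero Nat.card_pos.ne' Nat.card_pos.ne'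

/-- **The threefold cover.** -/
theorem exists_cover_E6 {K : Type u} [Field K] [Fintype K] {q : ℕ} (hq : IsPrimePow q) (hK : Fintype.card K = q ^ 2)
    (h3 : 3 ∣ q + 1) (hperf : commutator ↥(twistedE6 K q) = ⊤) :
    ∃ (L : Type u) (_ : Group L) (_ : Finite L) (π : L →* ↥(twistedE6 K q)), PCE π ∧ 3 ∣ Nat.card π.ker := by
  classical
  obtain ⟨p, k, hp, hk, hpk⟩ := hq
  have hp' : p.Prime := hp.nat_prime
  have : Fact p.Prime := ⟨hp'⟩
  have hchar : CharP K p := by
    have h1 : Fintype.card K = p ^ (k * 2) := by rw [hK, ← hpk, pow_mul]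
    exact charP_of_card_eq_prime_pow (f := k * 2) h1
  have hp3 : p ≠ 3 := by
    rintro rfl
    have h1 : 3 ∣ q := by rw [← hpk]; exact dvd_pow_self 3 hk.ne'
    have h2 : 3 ∣ 1 := (Nat.dvd_add_right h1).1 h3
    omega
  -- the Frobenius power
  obtain ⟨φ, hφ⟩ : ∃ φ : K →+* K, ∀ t, φ t = t ^ q :=
    ⟨iterateFrobenius K p k, fun t => by rw [iterateFrobenius_def, hpk]⟩
  -- the element of order three
  have h3' : 3 ∣ Fintype.card Kˣ := by
    rw [Fintype.card_units, hK]
    have h1 : q ^ 2 - 1 = (q + 1) * (q - 1) := by rw [← Nat.sq_sub_sq, one_pow]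
    rw [h1]
    exact h3.mul_right _
  obtain ⟨ω, hω⟩ := exists_prime_orderOf_dvd_card 3 h3'
  have hω3 : ω ^ 3 = 1 := by rw [← hω]; exact pow_orderOf_eq_one ω
  have hωq : ω ^ q = ω ^ 2 := by
    obtain ⟨m, hm⟩ := h3
    have h1 : ω ^ (q + 1) = 1 := by rw [hm, pow_mul, hω3, one_pow]
    rw [pow_succ] at h1
    rw [eq_comm]
    calc ω ^ 2 = ω ^ 2 * (ω ^ q * ω) := by rw [h1, mul_one]
      _ = ω ^ 3 * ω ^ q := by rw [pow_succ ω 2]; ac_rfl
      _ = ω ^ q := by rw [hω3, one_mul]
  -- the groups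
  have hD : chevE6 ∈ [chevG2, chevB2, chevD4, chevF4, chevE6, chevE7, chevE8] := by simp
  obtain ⟨θ, hsurj, hker, hθ⟩ := Cfsg.Agent.S1077.result (K := K) chevE6 hD
  obtain ⟨Φ, hΦ, hinj, hiff⟩ := exists_torus K
  have hcard := Cfsg.Agent.S1079.result (K := K) (q := Fintype.card K) rfl (chevE6, 3) (by simp)
  have hcard3 : Nat.card (Subgroup.center (chevE6.SteinbergGroup K)) = 3 := by
    rw [hcard]
    have : 3 ∣ Fintype.card K - 1 := by rwa [← Fintype.card_units]
    exact Nat.gcd_eq_left this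
  have hfinZ : Finite θ.ker := by
    rw [hker]
    exact Nat.finite_of_card_ne_zero (by rw [hcard3]; norm_num)
  have hfin : Finite (chevE6.SteinbergGroup K) := finite_of_ker θ
  have hexp : ∀ g, θ g = 1 → g ^ 3 = 1 := by
    intro g hg
    have h1 : g ∈ Subgroup.center (chevE6.SteinbergGroup K) := by rw [← hker]; exact hg
    have h2 : (⟨g, h1⟩ : Subgroup.center (chevE6.SteinbergGroup K)) ^ 3 = 1 := by
      rw [← hcard3]; exact pow_card_eq_one'
    exact congrArg Subtype.val h2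
  let ψ : chevE6.SteinbergGroup K →* GL chevE6.Idx K := (chevE6.group K).subtype.comp θ
  let Y : Subgroup (chevE6.SteinbergGroup K) := (twistedE6 K q).comap ψ
  have hψ : ∀ (r : ℕ) (t : K), r < chevE6.nroots → ((ψ (chevE6.stGen K r t) : GL chevE6.Idx K) :
      Matrix chevE6.Idx chevE6.Idx K) = chevE6.x K r t := hθ
  have hle : twistedE6 K q ≤ chevE6.group K := by
    rw [twistedE6, ChevalleyDatum.genSubgroup, Subgroup.closure_le]
    rintro g ⟨w, -, hg⟩
    have h1 : g = ψ (wd chevE6 w) := Units.ext (by rw [hg]; exact (theta_wd θ hθ w).symm)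
    rw [h1]
    exact (θ (wd chevE6 w)).2
  let f : Y →* ↥(twistedE6 K q) := (ψ.comp Y.subtype).codRestrict (twistedE6 K q) fun y => y.2
  have hf : Function.Surjective f := by
    rintro ⟨g, hg⟩
    obtain ⟨y, hy⟩ := hsurj ⟨g, hle hg⟩
    have hy' : ψ y = g := congrArg Subtype.val hy
    refine ⟨⟨y, ?_⟩, Subtype.ext hy'⟩
    show ψ y ∈ twistedE6 K q
    rw [hy']; exact hg
  have hfker : ∀ y : Y, f y = 1 → θ (y : chevE6.SteinbergGroup K) = 1 := by
    intro y hy
    have h1 : ((f y : ↥(twistedE6 K q)) : GL chevE6.Idx K) = 1 := by rw [hy]; rfl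
    exact Subtype.ext h1
  have hcen : f.ker ≤ Subgroup.center Y := by
    intro y hy
    have h1 : (y : chevE6.SteinbergGroup K) ∈ Subgroup.center (chevE6.SteinbergGroup K) := by
      rw [← hker]; exact hfker y hy
    rw [Subgroup.mem_center_iff]
    intro g
    exact Subtype.ext (Subgroup.mem_center_iff.1 h1 g)
  -- the twisted root elements lie in the commutator subgroup of `Y`
  let C : Subgroup (chevE6.SteinbergGroup K) := (commutator ↥Y).map Y.subtype
  have htw : ∀ (a b a' b' : ℕ), IsPair a b a' b' →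
      (a, b) ∈ [(e6p1, e6p6), (e6m1, e6m6), (e6p3, e6p5), (e6m3, e6m5)] → ∀ t : K, tw K φ a b t ∈ C := by
    intro a b a' b' hP hab t
    have hY : tw K φ a b t ∈ Y := by
      show ψ (tw K φ a b t) ∈ twistedE6 K q
      rw [twistedE6, ChevalleyDatum.genSubgroup]
      refine Subgroup.subset_closure ⟨[(a, t), (b, t ^ q)], Or.inr ⟨t, (a, b), hab, rfl⟩, ?_⟩
      have h1 : tw K φ a b t = wd chevE6 [(a, t), (b, t ^ q)] := by
        unfold tw
        rw [wd_cons, wd_cons, wd_nil, mul_one, hφ]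
      rw [h1]
      exact theta_wd θ hθ _
    refine ⟨⟨tw K φ a b t, hY⟩, ?_, rfl⟩
    refine mem_commutator_of_pow (q := f) hf hcen hperf (e := 3) (k := p) (fun z hz => ?_) ?_ ?_
    · exact Subtype.ext (hexp _ (hfker z hz))
    · exact Subtype.ext (hP.tw_pow_p p t)
    · exact (Nat.coprime_primes Nat.prime_three hp').2 (Ne.symm hp3)
  have hH : ∀ (a b a' b' : ℕ), IsPair a b a' b' →
      (a, b) ∈ [(e6p1, e6p6), (e6m1, e6m6), (e6p3, e6p5), (e6m3, e6m5)] →
      IsPair a' b' a b → (a', b') ∈ [(e6p1, e6p6), (e6m1, e6m6), (e6p3, e6p5), (e6m3, e6m5)] →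
      ∀ t : K, sth chevE6 a t * sth chevE6 b (φ t) ∈ C := by
    intro a b a' b' hP hab hP' hab' t
    rw [hP.sth_mul']
    have h1 := htw a b a' b' hP hab
    have h2 := htw a' b' a b hP' hab'
    exact mul_mem (mul_mem (mul_mem (h1 _) (h2 _)) (h1 _)) (inv_mem (mul_mem (mul_mem (h1 _) (h2 _)) (h1 _)))
  -- the central element
  set z : chevE6.SteinbergGroup K := Φ (fun i => ω ^ (![1, 0, 2, 0, 1, 2] : Fin 6 → ℤ) i) with hz
  have hzcen : z ∈ Subgroup.center (chevE6.SteinbergGroup K) :=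
    mem_center_of hiff hω3 ![1, 0, 2, 0, 1, 2] (by decide +kernel)
  have hθz : θ z = 1 := by
    have h1 : z ∈ θ.ker := by rw [hker]; exact hzcen
    exact h1
  have hz1 : z = (sth chevE6 56 (ω : K) * sth chevE6 36 (φ (ω : K))) *
      (sth chevE6 42 ((ω ^ 2 : Kˣ) : K) * sth chevE6 37 (φ ((ω ^ 2 : Kˣ) : K))) := by
    have e1 : φ (ω : K) = ((ω ^ 2 : Kˣ) : K) := by
      rw [hφ, ← Units.val_pow_eq_pow_val, hωq]
    have e2 : φ ((ω ^ 2 : Kˣ) : K) = (ω : K) := by
      rw [hφ, ← Units.val_pow_eq_pow_val, ← pow_mul, mul_comm 2 q, pow_mul, hωq, ← pow_mul,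
        show 2 * 2 = 3 + 1 from rfl, pow_succ, hω3, one_mul]
    have e3 : (fun i => ω ^ (![1, 0, 2, 0, 1, 2] : Fin 6 → ℤ) i : Fin chevE6.rank → Kˣ) =
        (Pi.mulSingle (⟨0, by decide⟩ : Fin chevE6.rank) ω * Pi.mulSingle (⟨5, by decide⟩ : Fin chevE6.rank) (ω ^ 2)) *
        (Pi.mulSingle (⟨2, by decide⟩ : Fin chevE6.rank) (ω ^ 2) *
          Pi.mulSingle (⟨4, by decide⟩ : Fin chevE6.rank) ω) := by
      have key : ∀ i : Fin 6, ω ^ (![1, 0, 2, 0, 1, 2] : Fin 6 → ℤ) i =
          ((Pi.mulSingle (0 : Fin 6) ω * Pi.mulSingle (5 : Fin 6) (ω ^ 2)) *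
          (Pi.mulSingle (2 : Fin 6) (ω ^ 2) * Pi.mulSingle (4 : Fin 6) ω) : Fin 6 → Kˣ) i := by
        intro i
        fin_cases i <;> simp
      funext i
      exact key i
    rw [hz, e3, map_mul, map_mul, map_mul, hΦ, hΦ, hΦ, hΦ, e1, e2]
    rfl
  have hzC : z ∈ C := by
    rw [hz1]
    exact mul_mem (hH 56 36 15 35 pair16 (by decide) pair16' (by decide) _)
      (hH 42 37 29 34 pair35 (by decide) pair35' (by decide) _)
  obtain ⟨y, hy, hyz⟩ := hzC
  have hyz' : (y : chevE6.SteinbergGroup K) = z := hyz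
  have hz3 : orderOf z = 3 := by
    refine orderOf_eq_prime (hexp z hθz) ?_
    intro h0
    have h1 := hinj (h0.trans (map_one Φ).symm)
    have h2 := congrFun h1 (⟨0, by decide⟩ : Fin chevE6.rank)
    have h4 : ω = 1 := by
      have h5 : ω ^ (1 : ℤ) = 1 := h2
      rwa [zpow_one] at h5
    rw [h4, orderOf_one] at hω
    omega
  refine exists_cover (q := f) hf hcen hperf (z := y) hy ?_ ?_
  · apply Subtype.ext
    show ((θ (y : chevE6.SteinbergGroup K) : ↥(chevE6.group K)) : GL chevE6.Idx K) = 1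
    rw [hyz', hθz]; rfl
  · rw [← Subgroup.orderOf_coe, hyz', hz3]

end Cfsg.Agent.H59.ESixCover
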