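import Cfsg.Agent.H59.FoldP

/-!
# Odd defining characteristic: `³D₄(q)` and `²E₆(q)` have no perfect central extensions by `p`-groups

* `noCov_D4`, `noCov_E6`.
-/

set_option autoImplicit false
set_option linter.unusedSectionVars false
set_option maxHeartbeats 400000

namespace Cfsg.Agent.H59.TwP

open Subgroup Cfsg.Agent.KFacts.Mult.FoldW Cfsg.Agent.H59.FoldP
open Cfsg.Agent.H64.AsmP (LCom AbPre)
open Cfsg.Agent.H51.Mult (PCE NoCov)
open CoxeterSystem Cfsg.Agent.ChevalleyStructure.CoxeterGeom Cfsg.Agent.Tits.Roots Cfsg.Agent.Tits.Core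
  Cfsg.Agent.Nodes.BNOf Cfsg.Agent.Nodes.RGDTwGen Cfsg.Agent.Nodes.RGDChev Cfsg.Agent.Nodes.RGDFold
  Cfsg.Agent.Nodes.RGDFoldSL
open Cfsg.Lie Cfsg.Agent.ChevalleyStructure Cfsg.Agent.ChevalleyStructure.Elts
  Cfsg.Agent.ChevalleyStructure.TwistedU Cfsg.Agent.ChevalleyStructure.TwistedFix

universe u

/-- separation by the elements of order two of the torus -/
def pmB (D : ChevalleyDatum) {l m : ℕ} (J : Fin m → List (Fin l)) (o o' : List ℕ) : Bool :=
  (List.finRange m).sublists.any fun S => (o.all fun r => cS D J S r % 2 == 0) && o'.all fun s => cS D J S s % 2 == 1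

/-- some element of order two of the torus is fixed point free -/
def freeB (D : ChevalleyDatum) {l m : ℕ} (J : Fin m → List (Fin l)) (o' : List ℕ) : Bool :=
  (List.finRange m).sublists.any fun S => o'.all fun s => cS D J S s % 2 == 1

section Arith

variable {K : Type u} [Field K] [Fintype K]

theorem two_ne {p : ℕ} [CharP K p] (hp2 : p ≠ 2) : (2 : K) ≠ 0 := by
  have hpp : p.Prime := CharP.char_is_prime K p
  intro h0
  have h1 : ((2 : ℕ) : K) = 0 := by exact_mod_cast h0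
  rw [CharP.cast_eq_zero_iff K p] at h1
  exact hp2 ((Nat.prime_dvd_prime_iff_eq hpp Nat.prime_two).1 h1)

theorem odd_q {q n p : ℕ} [CharP K p] (hp2 : p ≠ 2) (hq : IsPrimePow q) (hK : Fintype.card K = q ^ n) :
    Odd q := by
  have hpp : p.Prime := CharP.char_is_prime K p
  obtain ⟨r, k, hr, hk, rfl⟩ := hq
  have hr' := hr.nat_prime
  have h1 : (r : K) = 0 := by
    have h2 : ((Fintype.card K : ℕ) : K) = 0 := Nat.cast_card_eq_zero K
    rw [hK, Nat.cast_pow, Nat.cast_pow, ← pow_mul] at h2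
    exact eq_zero_of_pow_eq_zero h2
  rw [CharP.cast_eq_zero_iff K p] at h1
  have h3 := (Nat.prime_dvd_prime_iff_eq hpp hr').1 h1
  subst h3
  exact (hpp.odd_of_ne_two hp2).pow

theorem three_or {q : ℕ} (hq : IsPrimePow q) (ho : Odd q) : q = 3 ∨ 4 < q := by
  have := hq.one_lt
  obtain ⟨k, hk⟩ := ho
  omega

theorem card_Fx {q n : ℕ} {φ : K →+* K} (hφ : ∀ x, φ x = x ^ q) (hq : 1 < q) (hK : Fintype.card K = q ^ n) :
    Nat.card (Fx φ 1) = q := by
  rw [← FixedCard.card_fixed hq hK]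
  refine Nat.card_congr (Equiv.subtypeEquivRight fun x => ?_)
  rw [mem_Fx, Function.iterate_one, hφ]

theorem card_Fx_top {n : ℕ} {φ : K →+* K} (h : ∀ x, φ^[n] x = x) : Nat.card (Fx φ n) = Nat.card K := by
  have h1 : Fx φ n = ⊤ := by
    rw [eq_top_iff]
    intro t _
    rw [mem_Fx]
    exact h t
  rw [h1]
  exact Nat.card_congr Subfield.topEquiv.toEquiv

/-- a generator of the multiplicative group -/
theorem exists_gen : ∃ g : K, g ≠ 0 ∧ orderOf g = Fintype.card K - 1 := by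
  classical
  obtain ⟨g, hg⟩ := IsCyclic.exists_generator (α := Kˣ)
  refine ⟨g, g.ne_zero, ?_⟩
  rw [orderOf_units, orderOf_eq_card_of_forall_mem_zpowers hg, Nat.card_eq_fintype_card, Fintype.card_units]

end Arith

/-! ### `²E₆(q)` -/

namespace E6

open Cfsg.Agent.Nodes.RGDTwE6 (foldData foldGrp hp J A isCartan)
open Cfsg.Agent.Nodes.RGDTwNode.E6 (rep rest nodeOK eps_one)
open Cfsg.Agent.ChevalleyStructure.TwE6Basic (sg fix exists_frob)
open Cfsg.Agent.KFacts.Mult.TwESixBig (filOK)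

/-- first node of a block -/
def hd : Fin 4 → Fin 6 := ![1, 3, 2, 0]
/-- last node of a block -/
def tl : Fin 4 → Fin 6 := ![1, 3, 4, 5]

/-- the character of a set of nodes on long roots -/
def eS (S : List (Fin 4)) (s : ℕ) : ℤ := (S.map fun i => chevE6.cartan (hd i) s).sum

/-- invariance -/
def longR (s : ℕ) : Bool := chevE6.cartan 2 s == chevE6.cartan 4 s && chevE6.cartan 0 s == chevE6.cartan 5 s

/-- separation of long roots -/
def lsB (o o' : List ℕ) : Bool := o.all longR && o'.all longR &&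
  (List.finRange 4).sublists.any fun S => (o.all fun r => eS S r % 2 == 0) && o'.all fun s => eS S s % 2 == 1

theorem sepOK : (TwistedE6U.L.all fun o => TwistedE6U.L.all fun o' => decide (o = o') || pmB chevE6 J o o' ||
    lsB o o') = true := by decide +kernel

theorem freeOK : (TwistedE6U.L.all fun o => freeB chevE6 J o || TwistedE6U.L.any fun o' => lsB o' o) = true := by
  decide +kernel

theorem ltOK : ∀ o ∈ TwistedE6U.L, ∀ k ∈ o, k < chevE6.nroots := by decide +kernel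

theorem cart : chevE6.cartan 3 46 = -1 ∧ chevE6.cartan 1 39 = -1 ∧
    (chevE6.cartan 0 42 = -1 ∧ chevE6.cartan 5 42 = 0 ∧ chevE6.cartan 0 37 = 0 ∧ chevE6.cartan 5 37 = -1) ∧
    (chevE6.cartan 2 56 = -1 ∧ chevE6.cartan 4 56 = 0 ∧ chevE6.cartan 2 36 = 0 ∧ chevE6.cartan 4 36 = -1) := by
  decide +kernel

section

variable {K : Type u} [Field K] [Fintype K] {q : ℕ} {φ : K →+* K}

theorem hf (i : Fin 4) : ∀ s ∈ rep i :: rest i, ∀ t : K,
    (fun r t => ((TwistedE6Sigma.eps r : ℤ) : K) * φ t) s t = φ t := by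
  intro s hs t
  show ((TwistedE6Sigma.eps s : ℤ) : K) * φ t = φ t
  rw [eps_one i s hs, Int.cast_one, one_mul]

theorem exists_tau {p : ℕ} [CharP K p] (hp2 : p ≠ 2) (hq : IsPrimePow q) (hK : Fintype.card K = q ^ 2) :
    ∃ t : K, t ≠ 0 ∧ t * t ^ q = -1 := by
  have ho := odd_q hp2 hq hK
  obtain ⟨g, hg0, hg⟩ := exists_gen (K := K)
  obtain ⟨k, hk⟩ := ho
  have hk1 : 1 ≤ k := by
    have := hq.one_lt
    omega
  refine ⟨g ^ k, pow_ne_zero _ hg0, ?_⟩
  have e1 : g ^ k * (g ^ k) ^ q = g ^ (k * (q + 1)) := by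
    rw [← pow_mul, ← pow_add]
    congr 1
    ring
  rw [e1]
  have e2 : (g ^ (k * (q + 1))) ^ 2 = 1 := by
    rw [← pow_mul, ← orderOf_dvd_iff_pow_eq_one, hg, hK]
    have : k * (q + 1) * 2 = q ^ 2 - 1 := by
      have h1 : q ^ 2 - 1 = 4 * k ^ 2 + 4 * k := by
        rw [hk]
        have : (2 * k + 1) ^ 2 = 4 * k ^ 2 + 4 * k + 1 := by ring
        omega
      rw [h1, hk]
      ring
    rw [this]
  rw [pow_two] at e2
  rcases mul_self_eq_one_iff.1 e2 with h | h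
  · exfalso
    rw [← orderOf_dvd_iff_pow_eq_one, hg, hK] at h
    have h1 : q ^ 2 - 1 = 4 * k ^ 2 + 4 * k := by
      rw [hk]
      have : (2 * k + 1) ^ 2 = 4 * k ^ 2 + 4 * k + 1 := by ring
      omega
    rw [h1, hk] at h
    have h2 := Nat.le_of_dvd (by positivity) h
    nlinarith
  · exact h

theorem exists_long (FG : FoldGrp hp K J TwistedE6U.L (sg φ) TwistedE6Sigma.rho TwistedE6Sigma.rho
      (fun r t => ((TwistedE6Sigma.eps r : ℤ) : K) * φ t) (twistedE6 K q)) (hφφ : ∀ x, φ^[2] x = x)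
    {τ : K} (hτ0 : τ ≠ 0) (hτ : τ * φ τ = -1) (S : List (Fin 4)) :
    ∃ g : ↥(twistedE6 K q), (g : GL chevE6.Idx K) ∈ chevE6.diagonalSubgroup K ∧ ∃ χ : ℕ → K,
      TE hp (g : GL chevE6.Idx K) χ ∧ ∀ s, longR s = true → χ s = (-1 : K) ^ eS S s := by
  have hm : (-1 : K) ≠ 0 := neg_ne_zero.2 one_ne_zero
  induction S with
  | nil => exact ⟨1, one_mem _, _, TE.one, fun s _ => by
      show (1 : K) = (-1 : K) ^ (0 : ℤ)
      rw [zpow_zero]⟩
  | cons i S ih =>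
    obtain ⟨g, hgd, χ, hg, hχ⟩ := ih
    obtain ⟨k, hkd, ψ, hk, hψ⟩ : ∃ k : ↥(twistedE6 K q), (k : GL chevE6.Idx K) ∈ chevE6.diagonalSubgroup K ∧
        ∃ ψ : ℕ → K, TE hp (k : GL chevE6.Idx K) ψ ∧ ∀ s, longR s = true → ψ s = (-1 : K) ^ chevE6.cartan (hd i) s := by
      have gen : ∀ {t : K} (ht : t ∈ Fx φ ((rest i).length + 1)), t ≠ 0 → ∃ k : ↥(twistedE6 K q),
          (k : GL chevE6.Idx K) ∈ chevE6.diagonalSubgroup K ∧ TE hp (k : GL chevE6.Idx K) (chi chevE6 φ (J i) t) := by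
        intro t ht ht0
        have h0 : (⟨t, ht⟩ : Fx φ ((rest i).length + 1)) ≠ 0 := fun h => ht0 (congrArg Subtype.val h)
        exact ⟨Phi FG (nodeOK i) (hf i) (hS ⟨t, ht⟩), (Phi_hS FG (nodeOK i) (hf i) h0).1,
          te_Phi FG (nodeOK i) (hf i) h0⟩
      have hF1 : (-1 : K) ∈ Fx φ 1 := by
        rw [mem_Fx, Function.iterate_one, map_neg, map_one]
      have hF2 : τ ∈ Fx φ 2 := mem_Fx.2 (hφφ τ)
      have hφτ : φ τ ≠ 0 := (map_ne_zero φ).2 hτ0
      fin_cases i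
      · obtain ⟨k, hkd, hk⟩ := gen (t := -1) hF1 hm
        refine ⟨k, hkd, _, hk, fun s _ => ?_⟩
        show (-1 : K) ^ chevE6.cartan 1 s * 1 = (-1) ^ chevE6.cartan 1 s
        rw [mul_one]
      · obtain ⟨k, hkd, hk⟩ := gen (t := -1) hF1 hm
        refine ⟨k, hkd, _, hk, fun s _ => ?_⟩
        show (-1 : K) ^ chevE6.cartan 3 s * 1 = (-1) ^ chevE6.cartan 3 s
        rw [mul_one]
      · obtain ⟨k, hkd, hk⟩ := gen (t := τ) hF2 hτ0
        refine ⟨k, hkd, _, hk, fun s hs => ?_⟩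
        unfold longR at hs
        rw [Bool.and_eq_true, beq_iff_eq, beq_iff_eq] at hs
        show τ ^ chevE6.cartan 2 s * ((φ τ) ^ chevE6.cartan 4 s * 1) = (-1) ^ chevE6.cartan 2 s
        rw [mul_one, ← hs.1, ← mul_zpow, hτ]
      · obtain ⟨k, hkd, hk⟩ := gen (t := τ) hF2 hτ0
        refine ⟨k, hkd, _, hk, fun s hs => ?_⟩
        unfold longR at hs
        rw [Bool.and_eq_true, beq_iff_eq, beq_iff_eq] at hs
        show τ ^ chevE6.cartan 0 s * ((φ τ) ^ chevE6.cartan 5 s * 1) = (-1) ^ chevE6.cartan 0 s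
        rw [mul_one, ← hs.2, ← mul_zpow, hτ]
    refine ⟨k * g, mul_mem hkd hgd, _, hk.mul hg, fun s hs => ?_⟩
    show ψ s * χ s = _
    rw [hψ s hs, hχ s hs, ← zpow_add₀ hm]
    congr 1

theorem abPre {p : ℕ} [CharP K p] (hp2 : p ≠ 2) (hq : IsPrimePow q) (hK : Fintype.card K = q ^ 2)
    (hφ : ∀ x, φ x = x ^ q) (FG : FoldGrp hp K J TwistedE6U.L (sg φ) TwistedE6Sigma.rho TwistedE6Sigma.rho
      (fun r t => ((TwistedE6Sigma.eps r : ℤ) : K) * φ t) (twistedE6 K q)) (hφφ : ∀ x, φ^[2] x = x) (i : Fin 4) :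
    AbPre ((R chevE6 hp K J (sg φ) (sr i)).subgroupOf (twistedE6 K q)) := by
  have ho := odd_q hp2 hq hK
  have h3 := three_or hq ho
  have hc1 : Nat.card (Fx φ 1) = q := card_Fx hφ hq.one_lt hK
  have hc2 : 4 < Nat.card (Fx φ 2) := by
    rw [card_Fx_top hφφ, Nat.card_eq_fintype_card, hK]
    rcases h3 with h | h <;> nlinarith
  obtain ⟨c46, c39, ⟨d1, d2, d3, d4⟩, ⟨e1, e2, e3, e4⟩⟩ := cart
  -- torus elements
  have gen : ∀ (j : Fin 4) {c : K} (hc : c ∈ Fx φ ((rest j).length + 1)), c ≠ 0 → ∃ k : ↥(twistedE6 K q),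
      TE hp (k : GL chevE6.Idx K) (chi chevE6 φ (J j) c⁻¹) := by
    intro j c hc hc0
    have h0 : (⟨c⁻¹, inv_mem hc⟩ : Fx φ ((rest j).length + 1)) ≠ 0 := fun h =>
      inv_ne_zero hc0 (congrArg Subtype.val h)
    exact ⟨_, te_Phi FG (nodeOK j) (hf j) h0⟩
  fin_cases i
  · rcases h3 with h3 | h3
    · exact abPre_three FG (nodeOK 0) (hf 0) (by
        show Nat.card (Fx φ 1) = 3
        rw [hc1, h3])
    · refine abPre_node FG hp2 (nodeOK 0) (hf 0) (by
        show 4 < Nat.card (Fx φ 1)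
        rw [hc1]; exact h3) ?_
      rintro ⟨c, hc⟩ hc0
      have hc0' : c ≠ 0 := fun h => hc0 (Subtype.ext h)
      obtain ⟨k, hk⟩ := gen 1 (c := c) hc hc0'
      refine ⟨k, _, hk, ?_, trivial⟩
      show c⁻¹ ^ chevE6.cartan 3 46 * 1 = c
      rw [c46, mul_one, zpow_neg_one, inv_inv]
  · rcases h3 with h3 | h3
    · exact abPre_three FG (nodeOK 1) (hf 1) (by
        show Nat.card (Fx φ 1) = 3
        rw [hc1, h3])
    · refine abPre_node FG hp2 (nodeOK 1) (hf 1) (by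
        show 4 < Nat.card (Fx φ 1)
        rw [hc1]; exact h3) ?_
      rintro ⟨c, hc⟩ hc0
      have hc0' : c ≠ 0 := fun h => hc0 (Subtype.ext h)
      obtain ⟨k, hk⟩ := gen 0 (c := c) hc hc0'
      refine ⟨k, _, hk, ?_, trivial⟩
      show c⁻¹ ^ chevE6.cartan 1 39 * 1 = c
      rw [c39, mul_one, zpow_neg_one, inv_inv]
  · refine abPre_node FG hp2 (nodeOK 2) (hf 2) hc2 ?_
    rintro ⟨c, hc⟩ hc0
    have hc0' : c ≠ 0 := fun h => hc0 (Subtype.ext h)
    obtain ⟨k, hk⟩ := gen 3 (c := c) hc hc0'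
    refine ⟨k, _, hk, ?_, ?_, trivial⟩
    · show c⁻¹ ^ chevE6.cartan 0 42 * ((φ c⁻¹) ^ chevE6.cartan 5 42 * 1) = c
      rw [d1, d2, zpow_neg_one, inv_inv, zpow_zero, mul_one, mul_one]
    · show c⁻¹ ^ chevE6.cartan 0 37 * ((φ c⁻¹) ^ chevE6.cartan 5 37 * 1) = φ c
      rw [d3, d4, zpow_neg_one, zpow_zero, mul_one, one_mul, map_inv₀, inv_inv]
  · refine abPre_node FG hp2 (nodeOK 3) (hf 3) hc2 ?_
    rintro ⟨c, hc⟩ hc0
    have hc0' : c ≠ 0 := fun h => hc0 (Subtype.ext h)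
    obtain ⟨k, hk⟩ := gen 2 (c := c) hc hc0'
    refine ⟨k, _, hk, ?_, ?_, trivial⟩
    · show c⁻¹ ^ chevE6.cartan 2 56 * ((φ c⁻¹) ^ chevE6.cartan 4 56 * 1) = c
      rw [e1, e2, zpow_neg_one, inv_inv, zpow_zero, mul_one, mul_one]
    · show c⁻¹ ^ chevE6.cartan 2 36 * ((φ c⁻¹) ^ chevE6.cartan 4 36 * 1) = φ c
      rw [e3, e4, zpow_neg_one, zpow_zero, mul_one, one_mul, map_inv₀, inv_inv]

end

/-- **`²E₆(q)`, `q` odd, has no perfect central extension by a group of order `p`.** -/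
theorem noCov_E6 {K : Type u} [Field K] [Fintype K] {q p : ℕ} [CharP K p] (hp2 : p ≠ 2) (hq : IsPrimePow q)
    (hK : Fintype.card K = q ^ 2) : NoCov p ↥(twistedE6 K q) := by
  obtain ⟨φ, hφ, hqq⟩ := exists_frob hq hK
  have FG := foldGrp (K := K) hφ hqq
  have hφφ : ∀ x, φ^[2] x = x := by
    intro x
    show φ (φ x) = x
    rw [hφ, hφ, hqq]
  have h2 : (2 : K) ≠ 0 := two_ne hp2
  obtain ⟨τ, hτ0, hτ⟩ := exists_tau hp2 hq hK
  rw [← hφ] at hτ
  have hN : ∀ i, ∃ (r : ℕ) (o : List ℕ), NodeOK chevE6 J TwistedE6U.L TwistedE6Sigma.rho i r o ∧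
      ∀ s ∈ r :: o, ∀ t : K, (fun r t => ((TwistedE6Sigma.eps r : ℤ) : K) * φ t) s t = φ t :=
    fun i => ⟨rep i, rest i, nodeOK i, hf i⟩
  have hls : ∀ o o' : List ℕ, lsB o o' = true → ∃ g : ↥(twistedE6 K q),
      (g : GL chevE6.Idx K) ∈ chevE6.diagonalSubgroup K ∧ ∃ χ : ℕ → K, TE hp (g : GL chevE6.Idx K) χ ∧
        (∀ k ∈ o, χ k = 1) ∧ ∀ k ∈ o', χ k ≠ 1 := by
    intro o o' h
    unfold lsB at h
    rw [Bool.and_eq_true, Bool.and_eq_true, List.all_eq_true, List.all_eq_true, List.any_eq_true] at h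
    obtain ⟨⟨h3, h4⟩, S, -, h5⟩ := h
    rw [Bool.and_eq_true, List.all_eq_true, List.all_eq_true] at h5
    obtain ⟨g, hgd, χ, hg, hχ⟩ := exists_long FG hφφ hτ0 hτ S
    refine ⟨g, hgd, χ, hg, fun k hk => ?_, fun k hk => ?_⟩
    · rw [hχ k (h3 k hk)]
      exact neg_one_even (eq_of_beq (h5.1 k hk))
    · rw [hχ k (h4 k hk)]
      exact neg_one_odd h2 (eq_of_beq (h5.2 k hk))
  refine noCov_of_fold isCartan foldData FG filOK (abPre hp2 hq hK hφ FG hφφ) ?_ ?_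
  · intro o ho
    have h := freeOK
    rw [List.all_eq_true] at h
    have h1 := h o ho
    rw [Bool.or_eq_true, List.any_eq_true] at h1
    rcases h1 with h1 | ⟨o', -, h1⟩
    · unfold freeB at h1
      rw [List.any_eq_true] at h1
      obtain ⟨S, -, h5⟩ := h1
      rw [List.all_eq_true] at h5
      obtain ⟨g, hgd, hg⟩ := exists_pm FG hN S
      exact ⟨g, hgd, _, hg, fun k hk => neg_one_odd h2 (eq_of_beq (h5 k hk))⟩
    · obtain ⟨g, hgd, χ, hg, -, h5⟩ := hls _ _ h1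
      exact ⟨g, hgd, χ, hg, h5⟩
  · intro o ho o' ho' hne
    right
    have h := sepOK
    rw [List.all_eq_true] at h
    have h1 := h o ho
    rw [List.all_eq_true] at h1
    have h3 := h1 o' ho'
    rw [Bool.or_eq_true, Bool.or_eq_true, decide_eq_true_eq] at h3
    rcases h3 with (h3 | h3) | h3
    · exact absurd h3 hne
    · unfold pmB at h3
      rw [List.any_eq_true] at h3
      obtain ⟨S, -, h5⟩ := h3
      rw [Bool.and_eq_true, List.all_eq_true, List.all_eq_true] at h5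
      obtain ⟨g, hgd, hg⟩ := exists_pm FG hN S
      exact ⟨g, hgd, _, hg, fun k hk => neg_one_even (eq_of_beq (h5.1 k hk)),
        fun k hk => neg_one_odd h2 (eq_of_beq (h5.2 k hk))⟩
    · exact hls _ _ h3

end E6

/-! ### `³D₄(q)` -/

namespace D4

open Cfsg.Agent.Nodes.RGDTwD4 (foldData foldGrp hp J L A isCartan rho eps)
open Cfsg.Agent.Nodes.RGDTwNode.D4 (rep rest nodeOK eps_one)
open Cfsg.Agent.ChevalleyStructure.D4Fixed (sig)

/-- the combinations of `t, φ t, φ² t` occurring at the short roots -/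
def okL : List (ℤ × ℤ × ℤ) :=
  [(1, 1, -1), (1, -1, 1), (-1, 1, 1), (2, 0, 0), (0, 2, 0), (0, 0, 2), (1, -1, -1), (-1, 1, -1), (-1, -1, 1)]

/-- a class of long roots orthogonal to a class of short roots -/
def loB (o o' : List ℕ) : Bool := orthB chevD4 o o' &&
  (o.all fun s => chevD4.cartan 0 s == chevD4.cartan 2 s && chevD4.cartan 0 s == chevD4.cartan 3 s) &&
  o'.all fun s => decide ((chevD4.cartan 0 s, chevD4.cartan 2 s, chevD4.cartan 3 s) ∈ okL)

theorem sepOK : (L.all fun o => L.all fun o' => decide (o = o') || pmB chevD4 J o o' || loB o o' || loB o' o) =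
    true := by decide +kernel

theorem freeOK : (L.all fun o => freeB chevD4 J o) = true := by decide +kernel

theorem filOK : filB L = true := by decide +kernel

theorem ltOK : ∀ o ∈ L, ∀ k ∈ o, k < chevD4.nroots := by decide +kernel

theorem cart : (chevD4.cartan 1 14 = 2 ∧ chevD4.cartan 0 14 = -1 ∧ chevD4.cartan 2 14 = -1 ∧
    chevD4.cartan 3 14 = -1) ∧
    (chevD4.cartan 0 18 = 2 ∧ chevD4.cartan 2 18 = 0 ∧ chevD4.cartan 3 18 = 0 ∧ chevD4.cartan 1 18 = -1) ∧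
    (chevD4.cartan 0 13 = 0 ∧ chevD4.cartan 2 13 = 2 ∧ chevD4.cartan 3 13 = 0 ∧ chevD4.cartan 1 13 = -1) ∧
    (chevD4.cartan 0 12 = 0 ∧ chevD4.cartan 2 12 = 0 ∧ chevD4.cartan 3 12 = 2 ∧ chevD4.cartan 1 12 = -1) := by
  decide +kernel

section

variable {K : Type u} [Field K] [Fintype K] {q : ℕ} {φ : K →+* K}

theorem hf (i : Fin 2) : ∀ s ∈ rep i :: rest i, ∀ t : K,
    (fun r t => ((eps r : ℤ) : K) * φ t) s t = φ t := by
  intro s hs t
  show ((eps s : ℤ) : K) * φ t = φ t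
  rw [eps_one i s hs, Int.cast_one, one_mul]

/-- an element of norm one -/
theorem exists_t (hq : 2 ≤ q) (hK : Fintype.card K = q ^ 3) :
    ∃ t : K, t ≠ 0 ∧ t * t ^ q * (t ^ q) ^ q = 1 ∧ t ^ 2 ≠ 1 := by
  obtain ⟨g, hg0, hg⟩ := exists_gen (K := K)
  obtain ⟨k, rfl⟩ : ∃ k, q = k + 1 := ⟨q - 1, by omega⟩
  have hc : (k + 1) ^ 3 - 1 = k * ((k + 1) ^ 2 + (k + 1) + 1) := by
    have : (k + 1) ^ 3 = k * ((k + 1) ^ 2 + (k + 1) + 1) + 1 := by ring
    omega
  rw [hK, hc] at hg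
  refine ⟨g ^ k, pow_ne_zero _ hg0, ?_, ?_⟩
  · rw [← pow_mul, ← pow_mul, ← pow_add, ← pow_add, ← orderOf_dvd_iff_pow_eq_one, hg]
    apply dvd_of_eq
    ring
  · intro h
    rw [← pow_mul, ← orderOf_dvd_iff_pow_eq_one, hg] at h
    have h2 := Nat.le_of_dvd (by omega) h
    nlinarith [Nat.zero_le (k * k), Nat.zero_le (k * (k * k))]

theorem combo_ne {u v w : K} (hu : u ≠ 0) (hv : v ≠ 0) (hw : w ≠ 0) (hN : u * v * w = 1) (hu2 : u ^ 2 ≠ 1)
    (hv2 : v ^ 2 ≠ 1) (hw2 : w ^ 2 ≠ 1) {a b c : ℤ} (h : (a, b, c) ∈ okL) :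
    u ^ a * (v ^ b * (w ^ c * 1)) ≠ 1 := by
  unfold okL at h
  simp only [List.mem_cons, Prod.mk.injEq, List.not_mem_nil, or_false] at h
  rcases h with ⟨rfl, rfl, rfl⟩ | ⟨rfl, rfl, rfl⟩ | ⟨rfl, rfl, rfl⟩ | ⟨rfl, rfl, rfl⟩ | ⟨rfl, rfl, rfl⟩ |
    ⟨rfl, rfl, rfl⟩ | ⟨rfl, rfl, rfl⟩ | ⟨rfl, rfl, rfl⟩ | ⟨rfl, rfl, rfl⟩ <;> intro h0
  · apply hw2
    rw [zpow_one, zpow_one, zpow_neg_one, mul_one, ← mul_assoc, mul_inv_eq_one₀ hw] at h0
    rw [pow_two]
    nth_rw 1 [← h0]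
    exact hN
  · apply hv2
    rw [zpow_one, zpow_one, zpow_neg_one, mul_one] at h0
    field_simp at h0
    rw [pow_two]
    nth_rw 1 [← h0]
    linear_combination hN
  · apply hu2
    rw [zpow_one, zpow_one, zpow_neg_one, mul_one] at h0
    field_simp at h0
    rw [pow_two]
    nth_rw 1 [← h0]
    linear_combination hN
  · apply hu2
    rw [zpow_zero, zpow_zero, mul_one, mul_one, mul_one] at h0
    exact_mod_cast h0
  · apply hv2
    rw [zpow_zero, zpow_zero, mul_one, mul_one, one_mul] at h0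
    exact_mod_cast h0
  · apply hw2
    rw [zpow_zero, zpow_zero, mul_one, one_mul, one_mul] at h0
    exact_mod_cast h0
  · apply hu2
    rw [zpow_one, zpow_neg_one, zpow_neg_one, mul_one] at h0
    field_simp at h0
    linear_combination u * h0 + hN
  · apply hv2
    rw [zpow_one, zpow_neg_one, zpow_neg_one, mul_one] at h0
    field_simp at h0
    linear_combination v * h0 + hN
  · apply hw2
    rw [zpow_one, zpow_neg_one, zpow_neg_one, mul_one] at h0
    field_simp at h0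
    linear_combination w * h0 + hN

theorem abPre {p : ℕ} [CharP K p] (hp2 : p ≠ 2) (hq : IsPrimePow q) (hK : Fintype.card K = q ^ 3)
    (hφ : ∀ x, φ x = x ^ q) (FG : FoldGrp hp K J L (sig φ) rho (fun r => rho (rho r))
      (fun r t => ((eps r : ℤ) : K) * φ t) (twistedD4 K q)) (hφφ : ∀ x, φ^[3] x = x) (i : Fin 2) :
    AbPre ((R chevD4 hp K J (sig φ) (sr i)).subgroupOf (twistedD4 K q)) := by
  have ho := odd_q hp2 hq hK
  have h3 := three_or hq ho
  have hc1 : Nat.card (Fx φ 1) = q := card_Fx hφ hq.one_lt hK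
  have hc2 : 4 < Nat.card (Fx φ 3) := by
    rw [card_Fx_top hφφ, Nat.card_eq_fintype_card, hK]
    have h4 : 3 ≤ q := by omega
    have h5 := Nat.pow_le_pow_left h4 3
    omega
  obtain ⟨⟨a1, a2, a3, a4⟩, ⟨b1, b2, b3, b4⟩, ⟨c1, c2, c3, c4⟩, ⟨d1, d2, d3, d4⟩⟩ := cart
  -- torus elements
  have gen0 : ∀ {c : K}, φ c = c → c ≠ 0 → ∃ k : ↥(twistedD4 K q),
      TE hp (k : GL chevD4.Idx K) (chi chevD4 φ (J 0) c) := by
    intro c hc hc0
    have hc' : c ∈ Fx φ ((rest 0).length + 1) := mem_Fx.2 hc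
    have h0 : (⟨c, hc'⟩ : Fx φ ((rest 0).length + 1)) ≠ 0 := fun h => hc0 (congrArg Subtype.val h)
    exact ⟨_, te_Phi FG (nodeOK 0) (hf 0) h0⟩
  have gen1 : ∀ {c : K}, c ≠ 0 → ∃ k : ↥(twistedD4 K q),
      TE hp (k : GL chevD4.Idx K) (chi chevD4 φ (J 1) c) := by
    intro c hc0
    have hc' : c ∈ Fx φ ((rest 1).length + 1) := mem_Fx.2 (hφφ c)
    have h0 : (⟨c, hc'⟩ : Fx φ ((rest 1).length + 1)) ≠ 0 := fun h => hc0 (congrArg Subtype.val h)
    exact ⟨_, te_Phi FG (nodeOK 1) (hf 1) h0⟩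
  fin_cases i
  · rcases h3 with h3 | h3
    · exact abPre_three FG (nodeOK 0) (hf 0) (by
        show Nat.card (Fx φ 1) = 3
        rw [hc1, h3])
    · refine abPre_node FG hp2 (nodeOK 0) (hf 0) (by
        show 4 < Nat.card (Fx φ 1)
        rw [hc1]; exact h3) ?_
      rintro ⟨c, hc⟩ hc0
      have hc0' : c ≠ 0 := fun h => hc0 (Subtype.ext h)
      have hcφ : φ c = c := mem_Fx.1 hc
      have hcφ' : φ c⁻¹ = c⁻¹ := by rw [map_inv₀, hcφ]
      obtain ⟨k, hk⟩ := gen0 (c := c⁻¹) hcφ' (inv_ne_zero hc0')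
      obtain ⟨k', hk'⟩ := gen1 (c := c⁻¹) (inv_ne_zero hc0')
      refine ⟨k * k', _, hk.mul hk', ?_, trivial⟩
      show c⁻¹ ^ chevD4.cartan 1 14 * 1 * (c⁻¹ ^ chevD4.cartan 0 14 * ((φ c⁻¹) ^ chevD4.cartan 2 14 *
        ((φ (φ c⁻¹)) ^ chevD4.cartan 3 14 * 1))) = c
      rw [a1, a2, a3, a4, hcφ', hcφ', zpow_neg_one, inv_inv]
      have e : (c⁻¹ : K) ^ (2 : ℤ) = c⁻¹ * c⁻¹ := by
        rw [← pow_two]
        exact_mod_cast rfl
      rw [e]
      field_simp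
  · refine abPre_node FG hp2 (nodeOK 1) (hf 1) hc2 ?_
    rintro ⟨c, hc⟩ hc0
    have hc0' : c ≠ 0 := fun h => hc0 (Subtype.ext h)
    obtain ⟨j, hj⟩ : ∃ j, q * (q + 1) = j + j := Nat.even_mul_succ_self q
    -- `c = u² s⁻¹`
    set u : K := (c ^ j)⁻¹ with hu
    set n : K := c ^ (q ^ 2 + q + 1) with hn
    have hn0 : n ≠ 0 := pow_ne_zero _ hc0'
    have hu0 : u ≠ 0 := inv_ne_zero (pow_ne_zero _ hc0')
    have hnφ : φ n = n := by
      have h1 : c ^ (q ^ 3) = c := by rw [← hK]; exact FiniteField.pow_card c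
      rw [hφ, hn, ← pow_mul]
      have e : (q ^ 2 + q + 1) * q = q ^ 3 + (q ^ 2 + q) := by ring
      rw [e, pow_add, h1, pow_succ c (q ^ 2 + q), mul_comm]
    have hsφ : φ n⁻¹ = n⁻¹ := by rw [map_inv₀, hnφ]
    have hun : u * u * n = c := by
      have e : q ^ 2 + q + 1 = j + j + 1 := by rw [← hj]; ring
      rw [hn, e, pow_succ, pow_add, hu]
      have h1 : c ^ j ≠ 0 := pow_ne_zero _ hc0'
      field_simp
    have hun' : φ u * φ u * n = φ c := by
      rw [← hun, map_mul, map_mul, hnφ]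
    have hun'' : φ (φ u) * φ (φ u) * n = φ (φ c) := by
      rw [← hun', map_mul, map_mul, hnφ]
    obtain ⟨k, hk⟩ := gen1 (c := u) hu0
    obtain ⟨k', hk'⟩ := gen0 (c := n⁻¹) hsφ (inv_ne_zero hn0)
    have e : ∀ x : K, x ^ (2 : ℤ) = x * x := by
      intro x
      rw [← pow_two]
      exact_mod_cast rfl
    refine ⟨k * k', _, hk.mul hk', ?_, ?_, ?_, trivial⟩
    · show u ^ chevD4.cartan 0 18 * ((φ u) ^ chevD4.cartan 2 18 * ((φ (φ u)) ^ chevD4.cartan 3 18 * 1)) *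
        (n⁻¹ ^ chevD4.cartan 1 18 * 1) = c
      rw [b1, b2, b3, b4, zpow_neg_one, inv_inv, zpow_zero, zpow_zero, mul_one, mul_one, mul_one, mul_one, e, hun]
    · show u ^ chevD4.cartan 0 13 * ((φ u) ^ chevD4.cartan 2 13 * ((φ (φ u)) ^ chevD4.cartan 3 13 * 1)) *
        (n⁻¹ ^ chevD4.cartan 1 13 * 1) = φ c
      rw [c1, c2, c3, c4, zpow_neg_one, inv_inv, zpow_zero, zpow_zero, mul_one, mul_one, mul_one, one_mul, e, hun']
    · show u ^ chevD4.cartan 0 12 * ((φ u) ^ chevD4.cartan 2 12 * ((φ (φ u)) ^ chevD4.cartan 3 12 * 1)) *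
        (n⁻¹ ^ chevD4.cartan 1 12 * 1) = φ (φ c)
      rw [d1, d2, d3, d4, zpow_neg_one, inv_inv, zpow_zero, zpow_zero, mul_one, mul_one, one_mul, one_mul, e, hun'']

end

/-- **`³D₄(q)`, `q` odd, has no perfect central extension by a group of order `p`.** -/
theorem noCov_D4 {K : Type u} [Field K] [Fintype K] {q p : ℕ} [CharP K p] (hp2 : p ≠ 2) (hq : IsPrimePow q)
    (hK : Fintype.card K = q ^ 3) : NoCov p ↥(twistedD4 K q) := by
  obtain ⟨φ, hφ⟩ := D4Fixed.exists_frob hq hK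
  have FG := foldGrp hφ (D4Fixed.twisted_le_fix hK hφ)
  have hφφ : ∀ x, φ^[3] x = x := by
    intro x
    show φ (φ (φ x)) = x
    rw [hφ, hφ, hφ, ← pow_mul, ← pow_mul]
    have e : q * (q * q) = Fintype.card K := by rw [hK]; ring
    rw [e, FiniteField.pow_card]
  have h2 : (2 : K) ≠ 0 := two_ne hp2
  obtain ⟨t, ht0, hN, ht2⟩ := exists_t (K := K) hq.two_le hK
  rw [← hφ, ← hφ] at hN
  have hN0 : ∀ i, ∃ (r : ℕ) (o : List ℕ), NodeOK chevD4 J L rho i r o ∧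
      ∀ s ∈ r :: o, ∀ t : K, (fun r t => ((eps r : ℤ) : K) * φ t) s t = φ t :=
    fun i => ⟨rep i, rest i, nodeOK i, hf i⟩
  have hφ0 : φ t ≠ 0 := (map_ne_zero φ).2 ht0
  have hφφ0 : φ (φ t) ≠ 0 := (map_ne_zero φ).2 hφ0
  have ht2' : (φ t) ^ 2 ≠ 1 := by
    rw [← map_pow]
    exact fun h => ht2 (φ.injective (h.trans (map_one φ).symm))
  have ht2'' : (φ (φ t)) ^ 2 ≠ 1 := by
    rw [← map_pow]
    exact fun h => ht2' (φ.injective (h.trans (map_one φ).symm))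
  have hlo : ∀ o ∈ L, ∀ o' ∈ L, loB o o' = true →
      LCom (Rc hp (sig φ) (twistedD4 K q) o) (Rc hp (sig φ) (twistedD4 K q) o') := by
    intro o ho o' ho' h
    unfold loB at h
    rw [Bool.and_eq_true, Bool.and_eq_true, List.all_eq_true, List.all_eq_true] at h
    obtain ⟨⟨h3, h4⟩, h5⟩ := h
    have hc' : t ∈ Fx φ ((rest 1).length + 1) := mem_Fx.2 (hφφ t)
    have h0 : (⟨t, hc'⟩ : Fx φ ((rest 1).length + 1)) ≠ 0 := fun h => ht0 (congrArg Subtype.val h)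
    refine lcom_of_TE FG (te_Phi FG (nodeOK 1) (hf 1) h0) ho' filOK (ltOK o ho) (ltOK o' ho') h3 ?_ ?_
    · intro k hk
      have h6 := h4 k hk
      rw [Bool.and_eq_true, beq_iff_eq, beq_iff_eq] at h6
      show t ^ chevD4.cartan 0 k * ((φ t) ^ chevD4.cartan 2 k * ((φ (φ t)) ^ chevD4.cartan 3 k * 1)) = 1
      rw [← h6.1, ← h6.2, mul_one, ← mul_assoc, ← mul_zpow, ← mul_zpow, hN, one_zpow]
    · intro k hk
      have h6 := h5 k hk
      rw [decide_eq_true_eq] at h6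
      exact combo_ne ht0 hφ0 hφφ0 hN ht2 ht2' ht2'' h6
  refine noCov_of_fold isCartan foldData FG filOK (abPre hp2 hq hK hφ FG hφφ) ?_ ?_
  · intro o ho
    have h := freeOK
    rw [List.all_eq_true] at h
    have h1 := h o ho
    unfold freeB at h1
    rw [List.any_eq_true] at h1
    obtain ⟨S, -, h5⟩ := h1
    rw [List.all_eq_true] at h5
    obtain ⟨g, hgd, hg⟩ := exists_pm FG hN0 S
    exact ⟨g, hgd, _, hg, fun k hk => neg_one_odd h2 (eq_of_beq (h5 k hk))⟩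
  · intro o ho o' ho' hne
    have h := sepOK
    rw [List.all_eq_true] at h
    have h1 := h o ho
    rw [List.all_eq_true] at h1
    have h3 := h1 o' ho'
    rw [Bool.or_eq_true, Bool.or_eq_true, Bool.or_eq_true, decide_eq_true_eq] at h3
    rcases h3 with ((h3 | h3) | h3) | h3
    · exact absurd h3 hne
    · right
      unfold pmB at h3
      rw [List.any_eq_true] at h3
      obtain ⟨S, -, h5⟩ := h3
      rw [Bool.and_eq_true, List.all_eq_true, List.all_eq_true] at h5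
      obtain ⟨g, hgd, hg⟩ := exists_pm FG hN0 S
      exact ⟨g, hgd, _, hg, fun k hk => neg_one_even (eq_of_beq (h5.1 k hk)),
        fun k hk => neg_one_odd h2 (eq_of_beq (h5.2 k hk))⟩
    · exact Or.inl (hlo o ho o' ho' h3)
    · exact Or.inl (hlo o' ho' o ho h3).symm

end D4

end Cfsg.Agent.H59.TwP
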