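import Cfsg.Agent.H59.FewStar
import Cfsg.Agent.S0168

/-!
# The degrees of a group with a faithful character of small degree are dense (helper59)

* `dense` : `Φ` a faithful character of `Q` of degree `D`, `b` a degree, `X ≤ b`: there is a degree `a`
  with `X ≤ a < D X`;
* `card_le_pow` : if every prime divides at most `k` degrees of `Q` and `|Q| ≤ b ^ c` for some degree `b` then
  `|Q| ≤ D ^ ((2 c k + 1) c)`.
-/

set_option autoImplicit false

namespace Cfsg.Agent.H59.FewDeg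

open Cfsg Cfsg.Agent.Characters.Core Cfsg.Agent.H681.DegBasic

universe u

/-- the degree of a constituent is at most the degree -/
theorem degree_le {Q : Type u} [Group Q] [Fintype Q] {χ ψ : Q → ℂ} (hχ : IsCharacter Q χ) (hψ : IsIrrCharacter Q ψ)
    (h : classInner χ ψ ≠ 0) {n m : ℕ} (hn : χ 1 = n) (hm : ψ 1 = m) : m ≤ n := by
  classical
  have := finite_irr (G := Q)
  have := Fintype.ofFinite (IrrCharacter Q)
  obtain ⟨c, hc, hc'⟩ := Cfsg.Agent.CharDeep.CliffordCorr.exists_nat_coeffs hχ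
  choose d hd hd' using fun η : IrrCharacter Q => isIrr_apply_one η.2
  have h1 : (n : ℂ) = ∑ η : IrrCharacter Q, (c η : ℂ) * (d η : ℂ) := by
    rw [← hn]
    conv_lhs => rw [hc]
    rw [Finset.sum_apply]
    refine Finset.sum_congr rfl fun η _ => ?_
    rw [Pi.smul_apply, smul_eq_mul, hd']
  have h2 : n = ∑ η : IrrCharacter Q, c η * d η := by exact_mod_cast h1
  have h3 : c ⟨ψ, hψ⟩ ≠ 0 := by
    intro h0
    apply h
    have := hc' ⟨ψ, hψ⟩
    rw [h0, Nat.cast_zero] at this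
    exact this
  have h4 : d ⟨ψ, hψ⟩ = m := by
    have h5 : ψ 1 = (d ⟨ψ, hψ⟩ : ℂ) := hd' ⟨ψ, hψ⟩
    rw [hm] at h5
    exact_mod_cast h5.symm
  rw [h2]
  calc m = 1 * d ⟨ψ, hψ⟩ := by rw [h4, one_mul]
    _ ≤ c ⟨ψ, hψ⟩ * d ⟨ψ, hψ⟩ := Nat.mul_le_mul_right _ (Nat.one_le_iff_ne_zero.2 h3)
    _ ≤ _ := Finset.single_le_sum (f := fun η => c η * d η) (fun _ _ => Nat.zero_le _) (Finset.mem_univ _)

theorem isCharacter_pow {Q : Type u} [Group Q] [Finite Q] {χ : Q → ℂ} (hχ : IsCharacter Q χ) (i : ℕ) :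
    IsCharacter Q (χ ^ i) := by
  induction i with
  | zero => rw [pow_zero]; exact isCharacter_one
  | succ i ih => rw [pow_succ]; exact isCharacter_mul ih hχ

theorem dense {Q : Type u} [Group Q] [Finite Q] {Φ : Q → ℂ} (hΦ : IsCharacter Q Φ)
    (hf : ∀ g : Q, Φ g = Φ 1 → g = 1) {D : ℕ} (hD : Φ 1 = D) (hD2 : 2 ≤ D) {b : ℕ} (hb : b ∈ charDegrees Q) {X : ℕ}
    (hX : 1 ≤ X) (hXb : X ≤ b) : ∃ a ∈ charDegrees Q, X ≤ a ∧ a < D * X := by
  classical
  have := Fintype.ofFinite Q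
  have := finite_irr (G := Q)
  have := Fintype.ofFinite (IrrCharacter Q)
  by_contra hcon
  push Not at hcon
  have hX1 : 1 < X := by
    rcases Nat.lt_or_ge 1 X with h | h
    · exact h
    · have h1 : X = 1 := by omega
      subst h1
      have := hcon 1 one_mem le_rfl
      omega
  have key : ∀ (i : ℕ) (ψ : Q → ℂ) (m : ℕ), IsIrrCharacter Q ψ → ψ 1 = m → classInner (Φ ^ i) ψ ≠ 0 → m < X := by
    intro i
    induction i with
    | zero =>
      intro ψ m hψ hm h
      rw [pow_zero] at h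
      have h1 : m ≤ 1 := degree_le isCharacter_one hψ h (by simp) hm
      omega
    | succ i ih =>
      intro ψ m hψ hm h
      obtain ⟨c, hc, hc'⟩ := Cfsg.Agent.CharDeep.CliffordCorr.exists_nat_coeffs (isCharacter_pow hΦ i)
      have h1 : Φ ^ (i + 1) = ∑ η : IrrCharacter Q, (c η : ℂ) • ((η : Q → ℂ) * Φ) := by
        rw [pow_succ]
        conv_lhs => rw [hc]
        rw [Finset.sum_mul]
        refine Finset.sum_congr rfl fun η _ => ?_
        rw [smul_mul_assoc]
      rw [h1, classInner_sum_left] at h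
      obtain ⟨η, -, hη⟩ := Finset.exists_ne_zero_of_sum_ne_zero h
      rw [classInner_smul_left] at hη
      have h2 : (c η : ℂ) ≠ 0 := fun h0 => hη (by rw [h0, zero_mul])
      have h3 : classInner ((η : Q → ℂ) * Φ) ψ ≠ 0 := fun h0 => hη (by rw [h0, mul_zero])
      obtain ⟨e, he, he'⟩ := isIrr_apply_one η.2
      have h4 : e < X := ih η e η.2 he' (by rw [hc' η]; exact h2)
      have h5 : m ≤ e * D := degree_le (isCharacter_mul (isIrr_isCharacter η.2) hΦ) hψ h3
        (by rw [Pi.mul_apply, he', hD]; push_cast; rfl) hm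
      have hmem : m ∈ charDegrees Q := mem_charDegrees.2 ⟨ψ, hψ, hm⟩
      by_contra hmX
      have h6 := hcon m hmem (by omega)
      have h7 : e * D ≤ (X - 1) * D := Nat.mul_le_mul_right _ (by omega)
      have h8 : (X - 1) * D < D * X := by
        rw [Nat.mul_comm D X]
        exact Nat.mul_lt_mul_of_pos_right (by omega) (by omega)
      omega
  obtain ⟨n, ρ, rfl⟩ := hΦ
  have hinj : Function.Injective ρ := by
    intro g h hgh
    have h1 : ρ (g * h⁻¹) = 1 := by
      rw [map_mul, hgh, ← map_mul, mul_inv_cancel, map_one]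
    have h2 : ρ.character (g * h⁻¹) = ρ.character 1 := by
      show LinearMap.trace ℂ _ (ρ (g * h⁻¹)) = LinearMap.trace ℂ _ (ρ 1)
      rw [h1, map_one ρ]
    exact mul_inv_eq_one.1 (hf _ h2)
  obtain ⟨ψ, hψ, hb'⟩ := mem_charDegrees.1 hb
  obtain ⟨i, -, hi⟩ := S0168.result ρ hinj ψ hψ
  have h1 := key i ψ b hψ hb' hi
  omega

/-- **Bounding the order.** -/
theorem card_le_pow {Q : Type u} [Group Q] [Finite Q] {k : ℕ} (hk : Few k Q) {Φ : Q → ℂ} (hΦ : IsCharacter Q Φ)
    (hf : ∀ g : Q, Φ g = Φ 1 → g = 1) {D : ℕ} (hD : Φ 1 = D) (hD2 : 2 ≤ D) {b c : ℕ} (hb : b ∈ charDegrees Q)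
    (hbc : Nat.card Q ≤ b ^ c) : Nat.card Q ≤ D ^ ((2 * (c * k) + 1) * c) := by
  classical
  have hb0 := pos_of_mem hb
  set L := Nat.log D b with hL
  have hLb : D ^ L ≤ b := Nat.pow_log_le_self D (by omega)
  have hbL : b < D ^ (L + 1) := Nat.lt_pow_succ_log_self (by omega) b
  have hex : ∀ i : ℕ, ∃ a : ℕ, i ≤ L → a ∈ charDegrees Q ∧ D ^ i ≤ a ∧ a < D ^ (i + 1) := by
    intro i
    by_cases hi : i ≤ L
    · obtain ⟨a, ha, h1, h2⟩ := dense hΦ hf hD hD2 hb (X := D ^ i) (Nat.one_le_pow _ _ (by omega))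
        ((Nat.pow_le_pow_right (by omega) hi).trans hLb)
      exact ⟨a, fun _ => ⟨ha, h1, by rw [pow_succ']; exact h2⟩⟩
    · exact ⟨0, fun h => absurd h hi⟩
  choose a ha using hex
  have hinj : Set.InjOn a (Finset.range (L + 1)) := by
    intro i hi j hj hij
    rw [Finset.coe_range, Set.mem_Iio] at hi hj
    obtain ⟨-, h1, h2⟩ := ha i (by omega)
    obtain ⟨-, h3, h4⟩ := ha j (by omega)
    by_contra hne
    rcases Nat.lt_or_gt_of_ne hne with h | h
    · have h5 : D ^ (i + 1) ≤ D ^ j := Nat.pow_le_pow_right (by omega) h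
      omega
    · have h5 : D ^ (j + 1) ≤ D ^ i := Nat.pow_le_pow_right (by omega) h
      omega
  have hdvd : ∏ d ∈ (Finset.range (L + 1)).image a, d ∣ Nat.card Q ^ k := by
    refine hk.prod_dvd (D := (Finset.range (L + 1)).image a) ?_ Nat.card_pos.ne' (fun d => d) (fun d _ => dvd_rfl) ?_
    · intro d hd
      obtain ⟨i, hi, rfl⟩ := Finset.mem_image.1 hd
      rw [Finset.mem_range] at hi
      exact (ha i (by omega)).1
    · intro d hd
      obtain ⟨i, hi, rfl⟩ := Finset.mem_image.1 hd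
      rw [Finset.mem_range] at hi
      exact dvd_card (ha i (by omega)).1
  rw [Finset.prod_image (fun x hx y hy h => hinj hx hy h)] at hdvd
  have hle : ∏ i ∈ Finset.range (L + 1), D ^ i ≤ Nat.card Q ^ k := by
    refine le_trans ?_ (Nat.le_of_dvd (Nat.pow_pos Nat.card_pos) hdvd)
    refine Finset.prod_le_prod' fun i hi => ?_
    rw [Finset.mem_range] at hi
    exact (ha i (by omega)).2.1
  rw [Finset.prod_pow_eq_pow_sum] at hle
  have h1 : D ^ ((∑ i ∈ Finset.range (L + 1), i) * 2) ≤ D ^ ((L + 1) * c * k * 2) := by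
    calc D ^ ((∑ i ∈ Finset.range (L + 1), i) * 2) = (D ^ (∑ i ∈ Finset.range (L + 1), i)) ^ 2 := by rw [pow_mul]
      _ ≤ (Nat.card Q ^ k) ^ 2 := Nat.pow_le_pow_left hle 2
      _ ≤ (((D ^ (L + 1)) ^ c) ^ k) ^ 2 := by
          refine Nat.pow_le_pow_left (Nat.pow_le_pow_left (hbc.trans (Nat.pow_le_pow_left hbL.le c)) k) 2
      _ = D ^ ((L + 1) * c * k * 2) := by
          rw [← pow_mul, ← pow_mul, ← pow_mul]
          congr 1
          ring
  have h2 := (Nat.pow_le_pow_iff_right (by omega : 1 < D)).1 h1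
  rw [Finset.sum_range_id_mul_two] at h2
  have h3 : (L + 1) * L ≤ (L + 1) * (2 * (c * k)) := by
    have h4 : L + 1 - 1 = L := by omega
    rw [h4] at h2
    calc (L + 1) * L ≤ (L + 1) * c * k * 2 := h2
      _ = (L + 1) * (2 * (c * k)) := by ring
  have h4 : L ≤ 2 * (c * k) := Nat.le_of_mul_le_mul_left h3 (by omega)
  calc Nat.card Q ≤ b ^ c := hbc
    _ ≤ (D ^ (L + 1)) ^ c := Nat.pow_le_pow_left hbL.le c
    _ = D ^ ((L + 1) * c) := by rw [← pow_mul]
    _ ≤ D ^ ((2 * (c * k) + 1) * c) := Nat.pow_le_pow_right (by omega) (Nat.mul_le_mul_right _ (by omega))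

end Cfsg.Agent.H59.FewDeg
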