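import Mathlib.Data.Nat.Factorization.Basic
import Mathlib.Data.Set.Card
import Mathlib.Data.Nat.Factorization.LCM

/-!
# Sets of numbers closed under an `lcm`-like operation (helper59)
-/

set_option autoImplicit false

namespace Cfsg.Agent.H59.FewDeg

theorem fac_le_of_dvd_lcm {a b c : ℕ} (ha : a ≠ 0) (hb : b ≠ 0) (hc : c ≠ 0) (h : a ∣ Nat.lcm b c) (p : ℕ) :
    a.factorization p ≤ max (b.factorization p) (c.factorization p) := by
  have h1 := (Nat.factorization_le_iff_dvd ha (Nat.lcm_ne_zero hb hc)).2 h p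
  rw [Nat.factorization_lcm hb hc] at h1
  exact h1

/-- a finite union of small sets is small -/
theorem ncard_biUnion_le {ι : Type*} (Y : Finset ι) (f : ι → Set ℕ) {k : ℕ} (hf : ∀ y ∈ Y, (f y).ncard ≤ k) :
    (⋃ y ∈ Y, f y).ncard ≤ Y.card * k := by
  classical
  induction Y using Finset.induction_on with
  | empty => simp
  | insert a s ha ih =>
    rw [Finset.card_insert_of_notMem ha, add_mul, one_mul, Finset.set_biUnion_insert]
    refine (Set.ncard_union_le _ _).trans ?_
    have h1 := ih fun y hy => hf y (Finset.mem_insert_of_mem hy)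
    have h2 := hf a (Finset.mem_insert_self a s)
    omega

theorem ncard_le_of_lcm {E : Set ℕ} (hfin : E.Finite) (hpos : ∀ e ∈ E, e ≠ 0)
    (hcl : ∀ e ∈ E, ∀ x ∈ E, ∃ y ∈ E, e ∣ Nat.lcm x y ∧ x ∣ Nat.lcm e y ∧ y ∣ Nat.lcm e x) {k : ℕ}
    (hk : ∀ p : ℕ, p.Prime → {e ∈ E | p ∣ e}.ncard ≤ k) : E.ncard ≤ k * k + k + 1 := by
  classical
  by_cases hE : ∀ e ∈ E, e = 1
  · have h1 : E ⊆ {1} := fun e he => hE e he
    have h2 := Set.ncard_le_ncard h1 (Set.finite_singleton 1)
    rw [Set.ncard_singleton] at h2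
    omega
  push Not at hE
  -- a minimal member
  obtain ⟨x, ⟨hxE, hx1⟩, hxmin⟩ : ∃ x, (x ∈ E ∧ x ≠ 1) ∧ ∀ e, e ∈ E ∧ e ≠ 1 → x ≤ e :=
    ⟨Nat.find hE, Nat.find_spec hE, fun e he => Nat.find_min' hE he⟩
  obtain ⟨r, hr, hrx⟩ := Nat.exists_prime_and_dvd hx1
  have hx0 := hpos x hxE
  -- the prime attached to `y`
  have hs : ∀ y : ℕ, ∃ s : ℕ, s.Prime ∧ ((∃ t : ℕ, t.Prime ∧ x.factorization t < y.factorization t) →
      x.factorization s < y.factorization s) := by
    intro y
    by_cases h : ∃ t : ℕ, t.Prime ∧ x.factorization t < y.factorization t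
    · obtain ⟨t, ht, ht'⟩ := h
      exact ⟨t, ht, fun _ => ht'⟩
    · exact ⟨2, Nat.prime_two, fun h' => absurd h' h⟩
  choose s hs hs' using hs
  have hYfin : {y ∈ E | r ∣ y}.Finite := hfin.subset fun e he => he.1
  set Y : Finset ℕ := hYfin.toFinset with hY
  have hYcard : Y.card ≤ k := by
    rw [hY, ← Set.ncard_eq_toFinset_card _ hYfin]
    exact hk r hr
  have hsub : E ⊆ ({1} ∪ {e ∈ E | r ∣ e}) ∪ ⋃ y ∈ Y, {e ∈ E | s y ∣ e} := by
    intro e he
    by_cases he1 : e = 1
    · exact Or.inl (Or.inl he1)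
    by_cases hre : r ∣ e
    · exact Or.inl (Or.inr ⟨he, hre⟩)
    right
    have he0 := hpos e he
    have hnd : ¬ e ∣ x := by
      intro h
      have h1 := Nat.le_of_dvd (Nat.pos_of_ne_zero hx0) h
      have h2 := hxmin e ⟨he, he1⟩
      have h3 : e = x := le_antisymm h1 h2
      exact hre (h3 ▸ hrx)
    obtain ⟨t, ht, ht'⟩ : ∃ t : ℕ, t.Prime ∧ x.factorization t < e.factorization t := by
      by_contra hcon
      push Not at hcon
      exact hnd ((Nat.factorization_prime_le_iff_dvd he0 hx0).1 fun p hp => hcon p hp)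
    obtain ⟨y, hyE, h1, h2, h3⟩ := hcl e he x hxE
    have hy0 := hpos y hyE
    have hry : r ∣ y := by
      have h4 := fac_le_of_dvd_lcm hx0 he0 hy0 h2 r
      have h5 : e.factorization r = 0 := Nat.factorization_eq_zero_of_not_dvd hre
      have h6 : 1 ≤ x.factorization r := (hr.dvd_iff_one_le_factorization hx0).1 hrx
      rw [h5] at h4
      have h7 : 1 ≤ y.factorization r := by
        rw [max_eq_right (Nat.zero_le _)] at h4
        omega
      exact (hr.dvd_iff_one_le_factorization hy0).2 h7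
    have hyt : x.factorization t < y.factorization t := by
      have h4 := fac_le_of_dvd_lcm he0 hx0 hy0 h1 t
      rcases le_total (x.factorization t) (y.factorization t) with h | h
      · rw [max_eq_right h] at h4
        omega
      · rw [max_eq_left h] at h4
        omega
    have h4 := hs' y ⟨t, ht, hyt⟩
    have h5 : s y ∣ e := by
      have h6 := fac_le_of_dvd_lcm hy0 he0 hx0 h3 (s y)
      have h7 : 1 ≤ e.factorization (s y) := by
        rcases le_total (e.factorization (s y)) (x.factorization (s y)) with h | h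
        · rw [max_eq_right h] at h6
          omega
        · rw [max_eq_left h] at h6
          omega
      exact ((hs y).dvd_iff_one_le_factorization he0).2 h7
    refine Set.mem_iUnion₂.2 ⟨y, ?_, he, h5⟩
    rw [hY, Set.Finite.mem_toFinset]
    exact ⟨hyE, hry⟩
  have hfinU : (({1} ∪ {e ∈ E | r ∣ e}) ∪ ⋃ y ∈ Y, {e ∈ E | s y ∣ e} : Set ℕ).Finite := by
    refine ((Set.finite_singleton 1).union (hfin.subset fun e he => he.1)).union ?_
    refine Set.Finite.biUnion (Finset.finite_toSet Y) fun y _ => hfin.subset fun e he => he.1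
  calc E.ncard ≤ (({1} ∪ {e ∈ E | r ∣ e}) ∪ ⋃ y ∈ Y, {e ∈ E | s y ∣ e} : Set ℕ).ncard := Set.ncard_le_ncard hsub hfinU
    _ ≤ (({1} : Set ℕ) ∪ {e ∈ E | r ∣ e}).ncard + (⋃ y ∈ Y, {e ∈ E | s y ∣ e}).ncard := Set.ncard_union_le _ _
    _ ≤ (1 + k) + k * k := by
        refine Nat.add_le_add ?_ ?_
        · refine (Set.ncard_union_le _ _).trans ?_
          rw [Set.ncard_singleton]
          exact Nat.add_le_add_left (hk r hr) 1
        · exact (ncard_biUnion_le Y _ fun y _ => hk (s y) (hs y)).trans (Nat.mul_le_mul_right _ hYcard)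
    _ = k * k + k + 1 := by rw [Nat.add_comm (1 + k), Nat.add_comm 1 k, ← Nat.add_assoc]

end Cfsg.Agent.H59.FewDeg
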