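import Cfsg.Agent.H59.FewStruct
import Cfsg.Agent.H59.FewNum

/-!
# Characters over linear characters of a normal subgroup with cyclic quotient (helper59)

`N` normal in `G`, `G / N` cyclic, `λ` a linear character of `N` : the irreducible characters over `λ` have degree
`|G : T|`, `T` the stabilizer of `λ`; the set of these degrees has at most `k² + k + 1` members if every prime
divides at most `k` degrees of `G`.
-/

set_option autoImplicit false

namespace Cfsg.Agent.H59.FewDeg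

open Cfsg Cfsg.Agent.Characters.Core Cfsg.Agent.H681.DegBasic

universe u

section Lin

variable {G : Type u} [Group G] (N : Subgroup G) [hN : N.Normal]

/-- the stabilizer of a function on `N` -/
def stab (f : N → ℂ) : Subgroup G where
  carrier := {g | ∀ n : N, f ⟨g * n * g⁻¹, hN.conj_mem n n.2 g⟩ = f n}
  mul_mem' := by
    intro a b ha hb n
    have h1 := ha ⟨b * n * b⁻¹, hN.conj_mem n n.2 b⟩
    have h2 := hb n
    rw [← h2, ← h1]
    congr 1
    apply Subtype.ext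
    show a * b * n * (a * b)⁻¹ = a * (b * n * b⁻¹) * a⁻¹
    group
  one_mem' := by
    intro n
    congr 1
    apply Subtype.ext
    show 1 * (n : G) * 1⁻¹ = n
    group
  inv_mem' := by
    intro a ha n
    have h1 := ha ⟨a⁻¹ * n * a⁻¹⁻¹, hN.conj_mem n n.2 a⁻¹⟩
    rw [← h1]
    congr 1
    apply Subtype.ext
    show a * (a⁻¹ * n * a⁻¹⁻¹) * a⁻¹ = (n : G)
    group

theorem mem_stab {f : N → ℂ} {g : G} :
    g ∈ stab N f ↔ ∀ n : N, f ⟨g * n * g⁻¹, hN.conj_mem n n.2 g⟩ = f n := Iff.rfl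

theorem le_stab {f : N → ℂ} (hf : IsClassFunction N f) : N ≤ stab N f := by
  intro g hg n
  exact hf n ⟨g, hg⟩

variable {N}

/-- generators modulo `N` -/
theorem exists_gen (T : Subgroup G) (hcyc : IsCyclic (G ⧸ N)) :
    ∃ h ∈ T, ∀ t ∈ T, ∃ i : ℤ, ∃ n ∈ N, t = h ^ i * n := by
  have h1 : IsCyclic (T.map (QuotientGroup.mk' N)) := inferInstance
  obtain ⟨⟨x, hx⟩, hgen⟩ := h1.exists_generator
  obtain ⟨h, hT, rfl⟩ := hx
  refine ⟨h, hT, fun t ht => ?_⟩
  obtain ⟨i, hi⟩ := hgen ⟨QuotientGroup.mk' N t, Subgroup.mem_map_of_mem _ ht⟩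
  have h2 : (QuotientGroup.mk' N h) ^ i = QuotientGroup.mk' N t := congrArg Subtype.val hi
  rw [← map_zpow] at h2
  refine ⟨i, (h ^ i)⁻¹ * t, QuotientGroup.eq.1 h2, by group⟩

/-- An irreducible character of `T` over a `T`-invariant linear character of `N` is linear. -/
theorem degree_one_over [Finite G] (T : Subgroup G) (hNT : N ≤ T) [Fintype N] (hcyc : IsCyclic (G ⧸ N)) {l : N → ℂ}
    (hl : IsIrrCharacter N l) (hl1 : l 1 = 1)
    (hinv : ∀ g ∈ T, ∀ n : N, l ⟨g * n * g⁻¹, hN.conj_mem (n : G) n.2 g⟩ = l n) {ψ : T → ℂ}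
    (hψ : IsIrrCharacter T ψ) (hne : classInner (fun n : N => ψ ⟨(n : G), hNT n.2⟩) l ≠ 0) : ψ 1 = 1 := by
  classical
  obtain ⟨f, rfl⟩ := Characters.Linear.exists_hom_of_isIrrCharacter hl hl1
  have hres := Cfsg.Agent.CharDeep.CliffordCorr.restrict_eq_mul_of_invariant N T hNT hψ hl hinv hne
  set e := classInner (fun n : N => ψ ⟨(n : G), hNT n.2⟩) (fun g : N => ((f g : ℂˣ) : ℂ)) with he
  obtain ⟨d, ρ, hρ, rfl⟩ := hψ
  have he1 : ρ.character 1 = e := by
    have h1 := hres 1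
    rw [map_one, Units.val_one, mul_one] at h1
    exact h1
  have hfin : ∀ x : ℂˣ, (∃ n : N, f n = x) → ‖(x : ℂ)‖ = 1 := by
    rintro x ⟨n, rfl⟩
    have h1 : (f n : ℂ) ^ Nat.card N = 1 := by
      rw [← Units.val_pow_eq_pow_val, ← map_pow, pow_card_eq_one', map_one, Units.val_one]
    exact Complex.norm_eq_one_of_pow_eq_one h1 Nat.card_pos.ne'
  -- `N` acts by scalars
  have hscal : ∀ n : N, ∃ w : ℂ, ρ ⟨(n : G), hNT n.2⟩ = w • LinearMap.id := by
    intro n
    apply (Characters.Values.norm_character_eq_iff ρ _).1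
    rw [hres n, norm_mul, hfin _ ⟨n, rfl⟩, mul_one, ← he1, Representation.char_one]
    simp
  obtain ⟨h, hT, hgen⟩ := exists_gen T hcyc
  have hform : ∀ t : T, ∃ (i : ℤ) (w : ℂ), ρ t = w • ρ (⟨h, hT⟩ ^ i) := by
    intro t
    obtain ⟨i, n, hn, ht⟩ := hgen t t.2
    obtain ⟨w, hw⟩ := hscal ⟨n, hn⟩
    refine ⟨i, w, ?_⟩
    have h1 : t = ⟨h, hT⟩ ^ i * ⟨n, hNT hn⟩ := by
      apply Subtype.ext
      rw [ht]
      simp
    rw [h1, map_mul]
    show ρ (⟨h, hT⟩ ^ i) * ρ ⟨n, hNT hn⟩ = _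
    rw [hw]
    refine LinearMap.ext fun v => ?_
    simp only [Module.End.mul_apply, LinearMap.smul_apply, LinearMap.id_apply, map_smul]
  have hcomm : ∀ a b : T, ρ a * ρ b = ρ b * ρ a := by
    intro a b
    obtain ⟨i, w, hw⟩ := hform a
    obtain ⟨j, z, hz⟩ := hform b
    rw [hw, hz, smul_mul_smul_comm, smul_mul_smul_comm, ← map_mul, ← map_mul, ← zpow_add, ← zpow_add,
      mul_comm w z, add_comm i j]
  refine degree_one_of_trivial (Q := T) ⟨d, ρ, hρ, rfl⟩ ?_
  intro v hv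
  have hker : commutator T ≤ MonoidHom.ker ρ := by
    rw [commutator_def, Subgroup.commutator_le]
    intro a _ b _
    rw [MonoidHom.mem_ker, commutatorElement_def, map_mul, map_mul, map_mul, hcomm a b, mul_assoc (ρ b), ← map_mul,
      mul_inv_cancel, map_one, mul_one, ← map_mul, mul_inv_cancel, map_one]
  have h2 := hker hv
  rw [MonoidHom.mem_ker] at h2
  show LinearMap.trace ℂ _ (ρ v) = LinearMap.trace ℂ _ (ρ 1)
  rw [h2, map_one ρ]

/-- The degrees over a linear character. -/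
theorem degree_eq_index [Fintype G] [Fintype N] (hcyc : IsCyclic (G ⧸ N)) {l : N → ℂ} (hl : IsIrrCharacter N l)
    (hl1 : l 1 = 1) {χ : G → ℂ} (hχ : IsIrrCharacter G χ) (hne : classInner (fun n : N => χ n) l ≠ 0) :
    χ 1 = ((stab N l).index : ℂ) := by
  classical
  have hNT : N ≤ stab N l := le_stab N (isIrr_isClassFunction hl)
  have := Fintype.ofFinite (stab N l)
  obtain ⟨ψ, hψ, hψχ, hψl⟩ := Cfsg.Agent.CharDeep.CliffordCorr.clifford_correspondence N l hl (stab N l)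
    (fun g => Iff.rfl) hNT χ hχ hne
  have h1 : ψ 1 = 1 := degree_one_over (stab N l) hNT hcyc hl hl1 (fun g hg => hg) hψ (by rw [hψl]; exact hne)
  rw [← hψχ, indFun_apply]
  have h2 : ∀ x : G, extendByZero (stab N l) ψ (x⁻¹ * 1 * x) = 1 := by
    intro x
    have : x⁻¹ * 1 * x = 1 := by group
    rw [this, extendByZero_of_mem (stab N l) ψ (stab N l).one_mem, ← h1]
    rfl
  simp only [h2, Finset.sum_const, Finset.card_univ, nsmul_eq_mul]
  have h3 : (Nat.card (stab N l) : ℂ) ≠ 0 := by exact_mod_cast Nat.card_pos.ne'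
  rw [← Nat.card_eq_fintype_card, ← (stab N l).index_mul_card]
  push_cast
  field_simp

/-- Indices in a cyclic quotient. -/
theorem index_dvd_lcm [Finite G] (hcyc : IsCyclic (G ⧸ N)) {T₁ T₂ T₃ : Subgroup G} (h1 : N ≤ T₁) (h2 : N ≤ T₂)
    (h3 : N ≤ T₃) (h : T₁ ⊓ T₂ ≤ T₃) : T₃.index ∣ Nat.lcm T₁.index T₂.index := by
  obtain ⟨g, -, hg⟩ := exists_gen (⊤ : Subgroup G) hcyc
  have hcomm : ∀ a b : G, a * b * a⁻¹ * b⁻¹ ∈ N := by
    intro a b
    obtain ⟨i, n, hn, rfl⟩ := hg a (Subgroup.mem_top a)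
    obtain ⟨j, m, hm, rfl⟩ := hg b (Subgroup.mem_top b)
    rw [← QuotientGroup.eq_one_iff]
    simp only [QuotientGroup.mk_mul, QuotientGroup.mk_inv, (QuotientGroup.eq_one_iff n).2 hn,
      (QuotientGroup.eq_one_iff m).2 hm, mul_one, QuotientGroup.mk_zpow]
    rw [← zpow_add, add_comm, zpow_add]
    group
  have key : ∀ (T : Subgroup G), N ≤ T → ∀ t : ℕ, g ^ t ∈ T ↔ T.index ∣ t := by
    intro T hT t
    have hTn : T.Normal := by
      constructor
      intro a ha b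
      have h4 : b * a * b⁻¹ = (b * a * b⁻¹ * a⁻¹) * a := by group
      rw [h4]
      exact T.mul_mem (hT (hcomm b a)) ha
    have hord : orderOf (g : G ⧸ T) = T.index := by
      rw [Subgroup.index_eq_card]
      refine orderOf_eq_card_of_forall_mem_zpowers fun x => ?_
      obtain ⟨y, rfl⟩ := QuotientGroup.mk_surjective x
      obtain ⟨i, n, hn, rfl⟩ := hg y (Subgroup.mem_top y)
      refine ⟨i, ?_⟩
      show (g : G ⧸ T) ^ i = _
      rw [QuotientGroup.mk_mul, (QuotientGroup.eq_one_iff n).2 (hT hn), mul_one, QuotientGroup.mk_zpow]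
    rw [← hord, orderOf_dvd_iff_pow_eq_one, ← QuotientGroup.mk_pow, QuotientGroup.eq_one_iff]
  rw [← key T₃ h3]
  apply h
  exact ⟨(key T₁ h1 _).2 (Nat.dvd_lcm_left _ _), (key T₂ h2 _).2 (Nat.dvd_lcm_right _ _)⟩

/-- the degrees over linear characters -/
def linDeg (N : Subgroup G) [N.Normal] : Set ℕ :=
  {n | ∃ f : N →* ℂˣ, n = (stab N (fun x : N => ((f x : ℂˣ) : ℂ))).index}

theorem mem_linDeg [Fintype G] [Fintype N] (hcyc : IsCyclic (G ⧸ N)) {l : N → ℂ} (hl : IsIrrCharacter N l)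
    (hl1 : l 1 = 1) {χ : G → ℂ} (hχ : IsIrrCharacter G χ) (hne : classInner (fun n : N => χ n) l ≠ 0) {n : ℕ}
    (hn : χ 1 = n) : n ∈ linDeg N := by
  obtain ⟨f, rfl⟩ := Characters.Linear.exists_hom_of_isIrrCharacter hl hl1
  refine ⟨f, ?_⟩
  have h1 := degree_eq_index hcyc hl hl1 hχ hne
  rw [hn] at h1
  exact_mod_cast h1

theorem linDeg_subset [Finite G] (hcyc : IsCyclic (G ⧸ N)) : linDeg N ⊆ charDegrees G := by
  classical
  rintro n ⟨f, rfl⟩
  have := Fintype.ofFinite G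
  have := Fintype.ofFinite N
  have hl : IsIrrCharacter N (fun x : N => ((f x : ℂˣ) : ℂ)) := Characters.Linear.isIrrCharacter_hom f
  obtain ⟨χ, hχ, hne⟩ := Cfsg.Agent.CharDeep.PowerDegrees.exists_irr_over N hl
  exact mem_charDegrees.2 ⟨χ, hχ, degree_eq_index hcyc hl (by simp) hχ hne⟩

theorem ncard_linDeg [Finite G] (hcyc : IsCyclic (G ⧸ N)) {k : ℕ} (hk : Few k G) :
    (linDeg N).ncard ≤ k * k + k + 1 := by
  have hfin : (linDeg N).Finite := (finite_degrees G).subset (linDeg_subset hcyc)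
  refine ncard_le_of_lcm hfin ?_ ?_ ?_
  · intro e he
    exact (pos_of_mem (linDeg_subset hcyc he)).ne'
  · rintro _ ⟨f, rfl⟩ _ ⟨f', rfl⟩
    have hle : ∀ f : N →* ℂˣ, N ≤ stab N (fun x : N => ((f x : ℂˣ) : ℂ)) := fun f =>
      le_stab N (isIrr_isClassFunction (Characters.Linear.isIrrCharacter_hom f))
    have hiff : ∀ (f : N →* ℂˣ) (g : G), g ∈ stab N (fun x : N => ((f x : ℂˣ) : ℂ)) ↔
        ∀ n : N, f ⟨g * n * g⁻¹, hN.conj_mem n n.2 g⟩ = f n := by
      intro f g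
      rw [mem_stab]
      exact forall_congr' fun n => Units.val_inj
    refine ⟨_, ⟨f * f', rfl⟩, ?_, ?_, ?_⟩
    · refine index_dvd_lcm hcyc (hle _) (hle _) (hle _) ?_
      rintro g ⟨h1, h2⟩
      have h1 := (hiff _ g).1 h1
      have h2 := (hiff _ g).1 h2
      refine (hiff _ g).2 fun n => ?_
      have h3 := h2 n
      rw [MonoidHom.mul_apply, MonoidHom.mul_apply, h1 n] at h3
      exact mul_right_cancel h3
    · refine index_dvd_lcm hcyc (hle _) (hle _) (hle _) ?_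
      rintro g ⟨h1, h2⟩
      have h1 := (hiff _ g).1 h1
      have h2 := (hiff _ g).1 h2
      refine (hiff _ g).2 fun n => ?_
      have h3 := h2 n
      rw [MonoidHom.mul_apply, MonoidHom.mul_apply, h1 n] at h3
      exact mul_left_cancel h3
    · refine index_dvd_lcm hcyc (hle _) (hle _) (hle _) ?_
      rintro g ⟨h1, h2⟩
      have h1 := (hiff _ g).1 h1
      have h2 := (hiff _ g).1 h2
      refine (hiff _ g).2 fun n => ?_
      rw [MonoidHom.mul_apply, MonoidHom.mul_apply, h1 n, h2 n]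
  · intro p hp
    refine hk.ncard_le hp ?_ ?_
    · intro d hd
      exact linDeg_subset hcyc hd.1
    · intro d hd
      exact hd.2

end Lin

end Cfsg.Agent.H59.FewDeg
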