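import Cfsg.Agent.H59.FewLin
import Cfsg.Agent.H681.DegStruct
import Cfsg.Agent.H407.Basic

/-!
# The bound when the commutator subgroup of the minimal non-abelian quotient is abelian (helper59)
-/

set_option autoImplicit false

namespace Cfsg.Agent.H59.FewDeg

open Cfsg Cfsg.Agent.Characters.Core Cfsg.Agent.H681.DegBasic Cfsg.Agent.H681

universe u

/-- The quotient by the commutator subgroup is cyclic. -/
theorem isCyclic_quot {Q : Type u} [Group Q] [Finite Q] (h1 : commutator Q ≠ ⊥) {p : ℕ} (hp : p.Prime)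
    (hexp : ∀ v ∈ commutator Q, v ^ p = 1) (hcop : (commutator Q).index.Coprime p)
    (hfpf : ∀ g, g ∉ commutator Q → ∀ v ∈ commutator Q, g * v = v * g → v = 1) :
    IsCyclic (Q ⧸ commutator Q) := by
  classical
  have := Fact.mk hp
  have hVp : IsPGroup p (commutator Q) := by
    intro v
    exact ⟨1, Subtype.ext (by simpa using hexp v v.2)⟩
  obtain ⟨a, ha⟩ := IsPGroup.iff_card.1 hVp
  have hc : Nat.Coprime (Nat.card (commutator Q)) (commutator Q).index := by
    rw [ha]
    exact (Nat.Coprime.pow_right a hcop).symm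
  obtain ⟨A, hA⟩ := Subgroup.exists_right_complement'_of_coprime hc
  have hdisj : ∀ x ∈ A, x ∈ commutator Q → x = 1 := by
    intro x h2 h3
    have h4 : x ∈ commutator Q ⊓ A := ⟨h3, h2⟩
    rw [hA.disjoint.eq_bot, Subgroup.mem_bot] at h4
    exact h4
  have hcomm : IsMulCommutative A := by
    refine ⟨⟨fun x y => ?_⟩⟩
    have h2 : x * y * x⁻¹ * y⁻¹ = 1 := by
      apply Subtype.ext
      refine hdisj _ (x * y * x⁻¹ * y⁻¹ : A).2 ?_
      exact Subgroup.commutator_mem_commutator (Subgroup.mem_top (x : Q)) (Subgroup.mem_top (y : Q))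
    rw [mul_inv_eq_one, mul_inv_eq_iff_eq_mul] at h2
    exact h2
  have hcA : (Nat.card A).Coprime (Nat.card (commutator Q)) := by
    have h2 : Nat.card A = (commutator Q).index := by
      exact hA.symm.index_eq_card.symm
    rw [h2]
    exact hc.symm
  have hcyc : IsCyclic A := H407.Basic.fpf_abelian hcomm (by
      rw [Subgroup.normalizer_eq_top]; exact le_top) h1 hcA (fun x hx hx1 v hv h =>
      hfpf x (fun h' => hx1 (hdisj x hx h')) v hv h)
  let f : A →* Q ⧸ commutator Q := (QuotientGroup.mk' (commutator Q)).comp A.subtype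
  refine isCyclic_of_surjective f ?_
  intro x
  obtain ⟨g, rfl⟩ := QuotientGroup.mk_surjective x
  obtain ⟨⟨v, x⟩, hvx, -⟩ := hA.existsUnique g
  refine ⟨x, ?_⟩
  show ((x : Q) : Q ⧸ commutator Q) = (g : Q ⧸ commutator Q)
  rw [← hvx]
  show ((x : Q) : Q ⧸ commutator Q) = (((v : Q) * (x : Q) : Q) : Q ⧸ commutator Q)
  rw [QuotientGroup.mk_mul, (QuotientGroup.eq_one_iff (v : Q)).2 v.2, one_mul]

theorem ncard_dvd_le {G : Type u} [Group G] [Finite G] {k : ℕ} (hk : Few k G) {f : ℕ} (hf : 1 < f) :
    {n | n ∈ charDegrees G ∧ ∃ d, 1 < d ∧ d ∣ n ∧ f * d ∈ charDegrees G}.ncard ≤ k * k := by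
  classical
  set T : Set ℕ := {d | 1 < d ∧ f * d ∈ charDegrees G} with hT
  have hTk : T.ncard ≤ k := hk.ncard_le_of_mul hf fun d hd => hd.2
  have hTfin : T.Finite := by
    refine Set.Finite.of_finite_image (f := fun d => f * d) ((finite_degrees G).subset ?_) ?_
    · rintro _ ⟨d, hd, rfl⟩
      exact hd.2
    · intro a _ b _ hab
      exact Nat.eq_of_mul_eq_mul_left (by omega) hab
  have hsub : {n | n ∈ charDegrees G ∧ ∃ d, 1 < d ∧ d ∣ n ∧ f * d ∈ charDegrees G} ⊆
      ⋃ d ∈ hTfin.toFinset, {n | n ∈ charDegrees G ∧ 1 < d ∧ d ∣ n} := by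
    rintro n ⟨hn, d, hd1, hdn, hd⟩
    refine Set.mem_iUnion₂.2 ⟨d, ?_, hn, hd1, hdn⟩
    rw [Set.Finite.mem_toFinset]
    exact ⟨hd1, hd⟩
  refine (Set.ncard_le_ncard hsub ?_).trans ((ncard_biUnion_le _ _ (k := k) fun d _ => ?_).trans
    (Nat.mul_le_mul_right _ ?_))
  · exact Set.Finite.biUnion (Finset.finite_toSet _) fun d _ => (finite_degrees G).subset fun n hn => hn.1
  · by_cases hd : 1 < d
    · obtain ⟨r, hr, hrd⟩ := Nat.exists_prime_and_dvd hd.ne'
      exact hk.ncard_le hr (fun n hn => hn.1) fun n hn => hrd.trans hn.2.2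
    · have : {n | n ∈ charDegrees G ∧ 1 < d ∧ d ∣ n} = ∅ := by
        ext n
        simp [hd]
      rw [this, Set.ncard_empty]
      exact Nat.zero_le _
  · rw [← Set.ncard_eq_toFinset_card T hTfin]
    exact hTk

/-- **The solvable case.** -/
theorem solv_bound {G : Type u} [Group G] [Finite G] {k : ℕ} (hk : Few k G) (K : Subgroup G) [K.Normal]
    (h1 : commutator (G ⧸ K) ≠ ⊥) (hmin : ∀ M : Subgroup (G ⧸ K), M.Normal → M ≠ ⊥ → commutator (G ⧸ K) ≤ M)
    (hab : ∀ a ∈ commutator (G ⧸ K), ∀ b ∈ commutator (G ⧸ K), a * b = b * a) :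
    (charDegrees G).ncard ≤ 2 * (k * k) + 2 * k + 1 := by
  classical
  have := Fintype.ofFinite G
  obtain ⟨p, hp, hexp⟩ := MinNonab.exists_prime h1 hab hmin
  have hpf := Fact.mk hp
  have hπ := QuotientGroup.mk'_surjective K
  have hfin := finite_degrees G
  by_cases hZ : Subgroup.center (G ⧸ K) = ⊥
  · -- Frobenius case
    have hfpf := MinNonab.fixedPointFree hab hmin h1 hZ
    have hidx : 1 < (commutator (G ⧸ K)).index := by
      have h0 : (commutator (G ⧸ K)).index ≠ 0 := Subgroup.index_ne_zero_of_finite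
      have h2 : (commutator (G ⧸ K)).index ≠ 1 := by
        intro h
        rw [Subgroup.index_eq_one] at h
        apply h1
        rw [eq_bot_iff, ← hZ]
        intro v hv
        rw [Subgroup.mem_center_iff]
        intro g
        exact hab g (h ▸ Subgroup.mem_top g) v hv
      omega
    -- `f` is coprime to `p`
    have hcop : (commutator (G ⧸ K)).index.Coprime p := by
      rw [Nat.coprime_comm, hp.coprime_iff_not_dvd]
      intro hdvd
      have hVp : IsPGroup p (commutator (G ⧸ K)) := by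
        intro v
        exact ⟨1, Subtype.ext (by simpa using hexp v v.2)⟩
      obtain ⟨P, hP⟩ := hVp.exists_le_sylow
      have hne : ∃ x ∈ (P : Subgroup (G ⧸ K)), x ∉ commutator (G ⧸ K) := by
        by_contra hcon
        push Not at hcon
        have heq : (P : Subgroup (G ⧸ K)) = commutator (G ⧸ K) := le_antisymm hcon hP
        apply P.not_dvd_index
        rw [heq]
        exact hdvd
      obtain ⟨x, hxP, hxV⟩ := hne
      have hPp : IsPGroup p (P : Subgroup (G ⧸ K)) := P.isPGroup'
      let V' : Subgroup (P : Subgroup (G ⧸ K)) := (commutator (G ⧸ K)).subgroupOf P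
      have hV'n : V'.Normal := inferInstance
      have hV'1 : V' ≠ ⊥ := by
        intro h
        apply h1
        rw [eq_bot_iff]
        intro v hv
        have : (⟨v, hP hv⟩ : (P : Subgroup (G ⧸ K))) ∈ V' := Subgroup.mem_subgroupOf.2 hv
        rw [h, Subgroup.mem_bot] at this
        exact Subgroup.mem_bot.2 (congrArg Subtype.val this)
      obtain ⟨z, hz1, hz2, hz⟩ :=
        Cfsg.Agent.Transfer.PGroupNormal.exists_mem_inf_center_orderOf hPp V' hV'1
      have hz3 : (z : G ⧸ K) ∈ commutator (G ⧸ K) := Subgroup.mem_subgroupOf.1 hz1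
      have hz4 := Subgroup.mem_center_iff.1 hz2 ⟨x, hxP⟩
      have hz5 : x * (z : G ⧸ K) = z * x := congrArg Subtype.val hz4
      have hz6 := hfpf x hxV z hz3 hz5
      have hz7 : z = 1 := Subtype.ext hz6
      rw [hz7, orderOf_one] at hz
      exact hp.one_lt.ne hz
    set N : Subgroup G := (commutator (G ⧸ K)).comap (QuotientGroup.mk' K) with hN
    have hNn : N.Normal := (inferInstance : (commutator (G ⧸ K)).Normal).comap _
    have := Fintype.ofFinite N
    have hcyc : IsCyclic (G ⧸ N) := by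
      have h2 := isCyclic_quot h1 hp hexp hcop hfpf
      let φ : G ⧸ N →* (G ⧸ K) ⧸ commutator (G ⧸ K) :=
        QuotientGroup.map N (commutator (G ⧸ K)) (QuotientGroup.mk' K) le_rfl
      refine isCyclic_of_injective φ ?_
      rw [injective_iff_map_eq_one]
      intro x hx
      obtain ⟨g, rfl⟩ := QuotientGroup.mk_surjective x
      rw [QuotientGroup.map_mk, QuotientGroup.eq_one_iff] at hx
      exact (QuotientGroup.eq_one_iff g).2 hx
    have hsub : charDegrees G ⊆ ({n ∈ charDegrees G | p ∣ n} ∪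
        {n | n ∈ charDegrees G ∧ ∃ d, 1 < d ∧ d ∣ n ∧ (commutator (G ⧸ K)).index * d ∈ charDegrees G}) ∪ linDeg N := by
      intro n hn
      by_cases hpn : p ∣ n
      · exact Or.inl (Or.inl ⟨hn, hpn⟩)
      obtain ⟨χ, hχ, hχn⟩ := mem_charDegrees.1 hn
      obtain ⟨ψ, d, hψ, hψd, hne, hd1, hd2⟩ := exists_constituent N hχ hχn
      have hpd : ¬ p ∣ d := fun h => hpn (h.trans hd1)
      have h2 := FrobDeg.index_mul_mem (commutator (G ⧸ K)) (QuotientGroup.mk' K) hπ hab hfpf h1
        (p := p) (m := 1) (by simpa using hexp) N hN hψ hψd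
        (((Nat.Prime.coprime_iff_not_dvd hp).2 hpd).symm)
      have hd0 : 0 < d := by
        have h6 : d ∈ charDegrees N := mem_charDegrees.2 ⟨ψ, hψ, hψd⟩
        exact pos_of_mem h6
      by_cases hd : d = 1
      · right
        exact mem_linDeg hcyc hψ (by rw [hψd, hd, Nat.cast_one]) hχ hne hχn
      · exact Or.inl (Or.inr ⟨hn, d, by omega, hd1, h2⟩)
    have hfl : (linDeg N).Finite := hfin.subset (linDeg_subset hcyc)
    have hfu : (({n ∈ charDegrees G | p ∣ n} ∪
        {n | n ∈ charDegrees G ∧ ∃ d, 1 < d ∧ d ∣ n ∧ (commutator (G ⧸ K)).index * d ∈ charDegrees G}) ∪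
          linDeg N : Set ℕ).Finite :=
      ((hfin.subset fun n hn => hn.1).union (hfin.subset fun n hn => hn.1)).union hfl
    have h2 := Set.ncard_le_ncard hsub hfu
    have h3 := Set.ncard_union_le ({n ∈ charDegrees G | p ∣ n} ∪
        {n | n ∈ charDegrees G ∧ ∃ d, 1 < d ∧ d ∣ n ∧ (commutator (G ⧸ K)).index * d ∈ charDegrees G}) (linDeg N)
    have h4 := Set.ncard_union_le {n ∈ charDegrees G | p ∣ n}
        {n | n ∈ charDegrees G ∧ ∃ d, 1 < d ∧ d ∣ n ∧ (commutator (G ⧸ K)).index * d ∈ charDegrees G}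
    have h5 := hk p hp
    have h6 := ncard_dvd_le hk hidx
    have h7 := ncard_linDeg hcyc hk
    omega
  · -- the `p`-group case
    have hPG : IsPGroup p (G ⧸ K) := MinNonab.isPGroup_of_center h1 hp hexp hmin hZ
    obtain ⟨a, ha⟩ := IsPGroup.iff_card.1 hPG
    obtain ⟨f, hf, hf1⟩ : ∃ f ∈ charDegrees (G ⧸ K), f ≠ 1 := by
      by_contra hcon
      push Not at hcon
      apply h1
      have hall : ∀ χ : IrrCharacter (G ⧸ K), (χ : G ⧸ K → ℂ) 1 = 1 := by
        intro χ
        obtain ⟨m, hm, hm'⟩ := isIrr_apply_one χ.2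
        have := hcon m (mem_charDegrees.2 ⟨χ, χ.2, hm'⟩)
        rw [hm', this, Nat.cast_one]
      have hc := S0187.result.2 hall
      rw [commutator_eq_bot_iff_center_eq_top, Subgroup.eq_top_iff']
      intro x
      rw [Subgroup.mem_center_iff]
      intro y
      exact hc y x
    have hfpos := pos_of_mem hf
    have hsub : charDegrees G ⊆ {n ∈ charDegrees G | p ∣ n} ∪ {n | f * n ∈ charDegrees G} := by
      intro n hn
      by_cases hpn : p ∣ n
      · exact Or.inl ⟨hn, hpn⟩
      · right
        obtain ⟨χ, hχ, hχn⟩ := mem_charDegrees.1 hn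
        have := Fintype.ofFinite K
        obtain ⟨ψ, d, hψ, hψd, hne, hd1, hd2⟩ := exists_constituent K hχ hχn
        have hidx : K.index = p ^ a := ha
        rw [hidx] at hd2
        have hnd : n / d = 1 := by
          have h2 : n / d ∣ n := Nat.div_dvd_of_dvd hd1
          have h3 : (n / d).Coprime (p ^ a) := by
            refine Nat.Coprime.pow_right a ?_
            rw [Nat.coprime_comm, hp.coprime_iff_not_dvd]
            exact fun h => hpn (h.trans h2)
          exact Nat.eq_one_of_dvd_coprimes h3 dvd_rfl hd2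
        have hdn : d = n := by
          have := Nat.div_mul_cancel hd1
          rw [hnd, one_mul] at this
          exact this
        have hres := restrict_eq_of_degree K (isIrr_isCharacter hχ) hψ hne (by
          rw [hχn, hψd, hdn])
        refine gallagher (QuotientGroup.mk' K) hπ K (fun k hk => ?_) hχ (by rw [hres]; exact hψ)
          hχn hf
        exact (QuotientGroup.eq_one_iff k).2 hk
    have hfin2 : {n | f * n ∈ charDegrees G}.Finite := by
      refine Set.Finite.of_finite_image (f := fun d => f * d) (hfin.subset ?_) ?_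
      · rintro _ ⟨d, hd, rfl⟩
        exact hd
      · intro a _ b _ hab
        exact Nat.eq_of_mul_eq_mul_left (by omega) hab
    have h2 := Set.ncard_le_ncard hsub ((hfin.subset fun n hn => hn.1).union hfin2)
    have h3 := Set.ncard_union_le {n ∈ charDegrees G | p ∣ n} {n | f * n ∈ charDegrees G}
    have h5 := hk p hp
    have h6 := hk.ncard_le_of_mul (by omega : 1 < f) (D := {n | f * n ∈ charDegrees G}) fun d hd => hd
    have h7 : 0 ≤ k * k := Nat.zero_le _
    omega

end Cfsg.Agent.H59.FewDeg
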