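import Cfsg.Agent.H59.FewStar
import Cfsg.Agent.Characters.Values
import Cfsg.Agent.Characters.Linear
import Cfsg.Agent.Blocks.Deflate
import Cfsg.Agent.S0187
import Cfsg.Agent.H671.Tensor
import Cfsg.Agent.H671.Frame

/-!
# Groups whose commutator subgroup is contained in all nontrivial normal subgroups (helper59)

* `linear_trivial`, `degree_one_of_le`, `faithful_of_min`;
* `card_le` : if moreover the commutator subgroup is `≅ S ^ n`, `S` non-abelian simple, then
  `|Q| ≤ n |Aut S| ^ n`.
-/

set_option autoImplicit false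

namespace Cfsg.Agent.H59.FewDeg

open Cfsg Cfsg.Agent.Characters.Core Cfsg.Agent.H681.DegBasic

universe u v

theorem linear_trivial {Q : Type u} [Group Q] {β : Q → ℂ} (hβ : IsIrrCharacter Q β) (h1 : β 1 = 1) :
    ∀ v ∈ commutator Q, β v = 1 := by
  obtain ⟨f, rfl⟩ := Characters.Linear.exists_hom_of_isIrrCharacter hβ h1
  intro v hv
  have h2 : f v = 1 := Abelianization.commutator_subset_ker f hv
  show (f v : ℂ) = 1
  rw [h2, Units.val_one]

/-- An irreducible character with the commutator subgroup in its kernel is linear. -/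
theorem degree_one_of_trivial {Q : Type u} [Group Q] [Finite Q] {β : Q → ℂ} (hβ : IsIrrCharacter Q β)
    (h : ∀ v ∈ commutator Q, β v = β 1) : β 1 = 1 := by
  classical
  have := Fintype.ofFinite Q
  have := Fintype.ofFinite (commutator Q)
  have hsum : ∑ n : commutator Q, β n ≠ 0 := by
    have h0 : ∀ n ∈ (Finset.univ : Finset (commutator Q)), β n = β 1 := fun n _ => h n n.2
    rw [Finset.sum_congr rfl h0, Finset.sum_const, Finset.card_univ, nsmul_eq_mul]
    refine mul_ne_zero ?_ (isIrr_apply_one_ne_zero hβ)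
    exact_mod_cast Fintype.card_ne_zero
  obtain ⟨χ', hχ'⟩ := Blocks.Deflate.exists_deflation (commutator Q) β hβ hsum
  have hc : ∀ a b : Q ⧸ commutator Q, a * b = b * a := by
    intro a b
    exact mul_comm (G := Abelianization Q) a b
  have h1 := S0187.result.1 hc χ'
  rw [hχ']
  exact h1

/-- A non-linear irreducible character is faithful. -/
theorem faithful_of_min {Q : Type u} [Group Q] [Finite Q]
    (hmin : ∀ M : Subgroup Q, M.Normal → M ≠ ⊥ → commutator Q ≤ M) {β : Q → ℂ} (hβ : IsIrrCharacter Q β)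
    (h1 : β 1 ≠ 1) : ∀ g, β g = β 1 → g = 1 := by
  intro g hg
  by_contra hg1
  apply h1
  refine degree_one_of_trivial hβ ?_
  obtain ⟨n, ρ, hρ, rfl⟩ := hβ
  set M : Subgroup Q := MonoidHom.ker ρ with hM
  have hmem : ∀ x : Q, ρ.character x = ρ.character 1 → x ∈ M := by
    intro x hx
    rw [Representation.char_one] at hx
    rw [hM, MonoidHom.mem_ker]
    exact (Characters.Values.character_eq_finrank_iff ρ x).1 hx
  have hM1 : M ≠ ⊥ := by
    intro h
    have := hmem g hg
    rw [h, Subgroup.mem_bot] at this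
    exact hg1 this
  intro v hv
  have h2 : v ∈ M := hmin M inferInstance hM1 hv
  rw [hM, MonoidHom.mem_ker] at h2
  show LinearMap.trace ℂ _ (ρ v) = LinearMap.trace ℂ _ (ρ 1)
  rw [h2, map_one ρ]

section Card

variable {Q : Type u} [Group Q] [Finite Q] {S : Type v} [Group S] [Finite S] [IsSimpleGroup S] {n : ℕ}

/-- the action on `S ^ n` -/
noncomputable def act (e : commutator Q ≃* (Fin n → S)) : Q →* MulAut (Fin n → S) :=
  (MulAut.congr e).toMonoidHom.comp (MulAut.conjNormal (H := commutator Q))

omit [Finite Q] [Finite S] [IsSimpleGroup S] in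
theorem act_apply (e : commutator Q ≃* (Fin n → S)) (g : Q) (v : commutator Q) :
    act e g (e v) = e (MulAut.conjNormal g v) := by
  show e (MulAut.conjNormal g (e.symm (e v))) = _
  rw [MulEquiv.symm_apply_apply]

omit [Finite Q] [Finite S] [IsSimpleGroup S] in
theorem act_mem (e : commutator Q ≃* (Fin n → S)) (v : commutator Q) :
    act e (v : Q) = MulAut.conj (e v) := by
  ext x
  obtain ⟨w, rfl⟩ := e.surjective x
  rw [act_apply]
  have h1 : (MulAut.conjNormal (v : Q) w : commutator Q) = v * w * v⁻¹ := by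
    apply Subtype.ext
    rw [MulAut.conjNormal_apply]
    rfl
  rw [h1, map_mul, map_mul, map_inv]
  rfl

open Cfsg.Agent.H671.Tensor

omit [Finite Q] in
theorem card_le (hmin : ∀ M : Subgroup Q, M.Normal → M ≠ ⊥ → commutator Q ≤ M) (hna : ¬ IsMulCommutative S)
    (hn : 1 ≤ n) (e : commutator Q ≃* (Fin n → S)) : Nat.card Q ≤ n * Nat.card (MulAut S) ^ n := by
  classical
  have hS1 : ∃ s : S, s ≠ 1 := exists_ne 1
  obtain ⟨s0, hs0⟩ := hS1
  -- injectivity
  have hinj : Function.Injective (act e) := by
    rw [injective_iff_map_eq_one]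
    intro g hg
    by_contra hg1
    have hker : (act e).ker ≠ ⊥ := by
      intro h
      have : g ∈ (act e).ker := hg
      rw [h, Subgroup.mem_bot] at this
      exact hg1 this
    have hle := hmin (act e).ker inferInstance hker
    apply hna
    refine ⟨⟨fun a b => ?_⟩⟩
    have h1 : act e ((e.symm fun _ => a : commutator Q) : Q) = 1 := hle (e.symm fun _ => a).2
    rw [act_mem, MulEquiv.apply_symm_apply] at h1
    have h2 := congrArg (fun φ : MulAut (Fin n → S) => φ (fun _ => b)) h1
    have h3 := congrFun h2 ⟨0, hn⟩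
    have h4 : a * b * a⁻¹ = b := h3
    rw [mul_inv_eq_iff_eq_mul] at h4
    exact h4
  -- the permutation action
  let pm : Q →* Equiv.Perm (Fin n) :=
    { toFun := fun g => perm hna (act e g)
      map_one' := by rw [map_one]; exact (one_spec hna).1
      map_mul' := fun g h => by rw [map_mul]; exact (mul_spec hna _ _).1 }
  have hpmV : ∀ v ∈ commutator Q, pm v = 1 := by
    intro v hv
    show perm hna (act e v) = 1
    have := act_mem e ⟨v, hv⟩
    rw [this]
    exact (conj_spec hna _).1
  have hpmc : ∀ g h : Q, pm g * pm h = pm h * pm g := by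
    intro g h
    have h1 : pm (g * h * g⁻¹ * h⁻¹) = 1 := hpmV _ (by
      have := Subgroup.commutator_mem_commutator (Subgroup.mem_top g) (Subgroup.mem_top h)
      exact this)
    rw [map_mul, map_mul, map_mul, map_inv, map_inv, mul_inv_eq_one, mul_inv_eq_iff_eq_mul] at h1
    exact h1
  -- transitivity
  let i0 : Fin n := ⟨0, hn⟩
  have htr : ∀ j : Fin n, ∃ g : Q, pm g i0 = j := by
    by_contra hcon
    push Not at hcon
    obtain ⟨j, hj⟩ := hcon
    let O : Set (Fin n) := {i | ∃ g : Q, pm g i0 = i}
    have hOinv : ∀ (g : Q) (i : Fin n), i ∉ O → pm g i ∉ O := by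
      rintro g i hi ⟨h, hh⟩
      apply hi
      refine ⟨g⁻¹ * h, ?_⟩
      rw [map_mul, Equiv.Perm.mul_apply, hh, ← Equiv.Perm.mul_apply, ← map_mul, inv_mul_cancel, map_one,
        Equiv.Perm.one_apply]
    let M : Subgroup Q :=
      { carrier := {x | ∃ v : commutator Q, (v : Q) = x ∧ ∀ i, i ∉ O → e v i = 1}
        mul_mem' := by
          rintro _ _ ⟨v, rfl, hv⟩ ⟨w, rfl, hw⟩
          exact ⟨v * w, rfl, fun i hi => by rw [map_mul, Pi.mul_apply, hv i hi, hw i hi, mul_one]⟩
        one_mem' := ⟨1, rfl, fun i _ => by rw [map_one, Pi.one_apply]⟩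
        inv_mem' := by
          rintro _ ⟨v, rfl, hv⟩
          exact ⟨v⁻¹, rfl, fun i hi => by rw [map_inv, Pi.inv_apply, hv i hi, inv_one]⟩ }
    have hMn : M.Normal := by
      constructor
      rintro _ ⟨v, rfl, hv⟩ g
      refine ⟨MulAut.conjNormal g v, by rw [MulAut.conjNormal_apply], fun i hi => ?_⟩
      obtain ⟨i', hi'⟩ : ∃ i', pm g i' = i := ⟨(pm g)⁻¹ i, by simp⟩
      rw [← act_apply, ← hi']
      show act e g (e v) (perm hna (act e g) i') = 1
      rw [perm_spec, hv i', map_one]
      intro hi''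
      apply hi
      obtain ⟨h, hh⟩ := hi''
      exact ⟨g * h, by rw [map_mul, Equiv.Perm.mul_apply, hh, hi']⟩
    have hM1 : M ≠ ⊥ := by
      intro h
      have h1 : ((e.symm (Pi.mulSingle i0 s0) : commutator Q) : Q) ∈ M := by
        refine ⟨_, rfl, fun i hi => ?_⟩
        rw [MulEquiv.apply_symm_apply]
        refine Pi.mulSingle_eq_of_ne ?_ _
        rintro rfl
        exact hi ⟨1, by rw [map_one, Equiv.Perm.one_apply]⟩
      rw [h, Subgroup.mem_bot] at h1
      have h2 : e.symm (Pi.mulSingle i0 s0) = 1 := Subtype.ext h1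
      rw [map_eq_one_iff e.symm e.symm.injective] at h2
      have h3 := congrFun h2 i0
      rw [Pi.mulSingle_eq_same] at h3
      exact hs0 h3
    have hle := hmin M hMn hM1
    obtain ⟨w, hw, hw'⟩ := hle (e.symm (Pi.mulSingle j s0)).2
    have h2 : w = e.symm (Pi.mulSingle j s0) := Subtype.ext hw
    have h3 := hw' j (fun ⟨g, hg⟩ => hj g hg)
    rw [h2, MulEquiv.apply_symm_apply, Pi.mulSingle_eq_same] at h3
    exact hs0 h3
  -- the bound
  have hfin : Finite (MulAut S) := inferInstance
  have hinj2 : Function.Injective (fun g : Q => ((pm g i0, aut hna (act e g)) : Fin n × (Fin n → MulAut S))) := by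
    intro g h hgh
    have h1 : pm g i0 = pm h i0 := congrArg Prod.fst hgh
    have h2 : aut hna (act e g) = aut hna (act e h) := congrArg Prod.snd hgh
    have h3 : pm g = pm h := by
      ext i
      obtain ⟨c, hc⟩ := htr i
      rw [← hc, ← Equiv.Perm.mul_apply, ← Equiv.Perm.mul_apply, hpmc, hpmc h, Equiv.Perm.mul_apply,
        Equiv.Perm.mul_apply, h1]
    apply hinj
    ext x i
    obtain ⟨i', hi'⟩ : ∃ i', pm g i' = i := ⟨(pm g)⁻¹ i, by simp⟩
    have h4 : act e g x (perm hna (act e g) i') = aut hna (act e g) i' (x i') := perm_spec hna _ x i'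
    have h5 : act e h x (perm hna (act e h) i') = aut hna (act e h) i' (x i') := perm_spec hna _ x i'
    have h6 : perm hna (act e g) i' = i := hi'
    have h7 : perm hna (act e h) i' = i := by
      show pm h i' = i
      rw [← h3]; exact hi'
    rw [h6] at h4
    rw [h7] at h5
    rw [h4, h5, h2]
  have h := Nat.card_le_card_of_injective _ hinj2
  rw [Nat.card_prod, Nat.card_fun, Nat.card_fin] at h
  simpa using h

end Card

end Cfsg.Agent.H59.FewDeg
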