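import Cfsg.Agent.H59.FewNonsolv
import Cfsg.Agent.H59.FewStruct
import Cfsg.Agent.H59.FewSolv

/-!
# Few degrees divisible by each prime: few degrees (helper59)
-/

set_option autoImplicit false

namespace Cfsg.Agent.H59.FewDeg

open Cfsg Cfsg.Agent.Characters.Core Cfsg.Agent.H681.DegBasic Cfsg.Agent.H671.H5

universe u

/-- **The bound** from the facts on simple groups. -/
theorem main_bound {c : ℕ}
    (hext : ∀ (S : Type) [Group S] [Finite S] [IsSimpleGroup S], ¬ IsMulCommutative S →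
      ∃ θ : IrrCharacter S, charDegree (θ : S → ℂ) ≠ 1 ∧ ExtAut θ)
    (hbig : ∀ (S : Type) [Group S] [Finite S] [IsSimpleGroup S], ¬ IsMulCommutative S →
      ∃ b ∈ charDegrees S, Nat.card S ≤ b ^ c)
    (haut : ∀ (S : Type) [Group S] [Finite S] [IsSimpleGroup S], ¬ IsMulCommutative S →
      Nat.card (MulAut S) ≤ Nat.card S ^ 2)
    {G : Type u} [Group G] [Finite G] {k : ℕ} (hk : Few k G) :
    (charDegrees G).ncard ≤ (k + 2 * k * ((2 * (3 * c * k) + 1) * (3 * c))) + (2 * (k * k) + 2 * k + 1) := by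
  classical
  by_cases hG : commutator G = ⊥
  · -- abelian
    have hsub : charDegrees G ⊆ {1} := by
      intro n hn
      obtain ⟨χ, hχ, hn⟩ := mem_charDegrees.1 hn
      have h1 : χ 1 = 1 := degree_one_of_trivial hχ (by
        intro v hv
        rw [hG, Subgroup.mem_bot] at hv
        rw [hv])
      rw [h1] at hn
      exact (by exact_mod_cast hn.symm : n = 1)
    have h2 := Set.ncard_le_ncard hsub (Set.finite_singleton 1)
    rw [Set.ncard_singleton] at h2
    omega
  obtain ⟨K, hKn, h1, hmin⟩ := Cfsg.Agent.H681.MinNonab.exists_quotient hG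
  by_cases hab : ∀ a ∈ commutator (G ⧸ K), ∀ b ∈ commutator (G ⧸ K), a * b = b * a
  · have := solv_bound hk K h1 hmin hab
    omega
  -- the non-solvable case
  have hVn : (commutator (G ⧸ K)).Normal := inferInstance
  obtain ⟨S, iS, iS', n, hn, hna, ⟨e⟩⟩ := Cfsg.Agent.H671.Frame.minNormal_pi hVn h1 (by
    intro L hL hLV
    by_cases h : L = ⊥
    · exact Or.inl h
    · exact Or.inr (le_antisymm hLV (hmin L hL h))) (by
    intro hc
    apply hab
    intro a ha b hb
    exact congrArg Subtype.val (hc.1.1 (⟨a, ha⟩ : commutator (G ⧸ K)) ⟨b, hb⟩))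
  have hfin : Finite S := by
    have : Finite (Fin n → S) := Finite.of_equiv _ e.toEquiv
    have h0 : Fin n := ⟨0, hn⟩
    exact Finite.of_surjective (fun f : Fin n → S => f h0) fun s => ⟨fun _ => s, rfl⟩
  -- the character with irreducible restriction
  obtain ⟨θ, hθ1, hθ⟩ := hext S hna
  obtain ⟨Θ, hΘ⟩ := Cfsg.Agent.H671.Tensor.exists_extension (commutator (G ⧸ K)) hna e hθ
  have hirr : ∀ {α : S → ℂ}, IsIrrCharacter S α →
      IsIrrCharacter (commutator (G ⧸ K)) (fun v => ∏ i, α (e v i)) := fun hα =>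
    isIrr_comp (e : commutator (G ⧸ K) →* (Fin n → S)) e.surjective (Cfsg.Agent.H713.isIrr_pi hα)
  have hΘV : IsIrrCharacter (commutator (G ⧸ K)) (fun v : commutator (G ⧸ K) => (Θ : G ⧸ K → ℂ) v) := by
    have h2 : (fun v : commutator (G ⧸ K) => (Θ : G ⧸ K → ℂ) v) = fun v => ∏ i, (θ : S → ℂ) (e v i) := funext hΘ
    rw [h2]
    exact hirr θ.2
  have hprod1 : ∀ α : S → ℂ, (∏ i : Fin n, α (e 1 i)) = α 1 ^ n := by
    intro α
    rw [map_one]
    simp
  have hΘ1 : (Θ : G ⧸ K → ℂ) 1 ≠ 1 := by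
    have h2 := hΘ 1
    rw [hprod1, Cfsg.Agent.Blocks.Basic.irr_one_eq_charDegree θ.2] at h2
    have h3 : ((1 : commutator (G ⧸ K)) : G ⧸ K) = 1 := rfl
    rw [h3] at h2
    rw [h2]
    intro h4
    have h5 : charDegree (θ : S → ℂ) ^ n = 1 := by exact_mod_cast h4
    exact hθ1 ((pow_eq_one_iff.1 h5).resolve_right (by omega))
  -- the large degree
  obtain ⟨b, hb, hbS⟩ := hbig S hna
  obtain ⟨α, hα, hαb⟩ := mem_charDegrees.1 hb
  obtain ⟨m, hm, hbm⟩ : ∃ m ∈ charDegrees (G ⧸ K), b ^ n ≤ m := by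
    have := Fintype.ofFinite (G ⧸ K)
    have := Fintype.ofFinite (commutator (G ⧸ K))
    obtain ⟨χ, hχ, hne⟩ := Cfsg.Agent.CharDeep.PowerDegrees.exists_irr_over (commutator (G ⧸ K)) (hirr hα)
    obtain ⟨m, -, hm⟩ := isIrr_apply_one hχ
    refine ⟨m, mem_charDegrees.2 ⟨χ, hχ, hm⟩, ?_⟩
    refine degree_le (Cfsg.Agent.Characters.Clifford.isCharacter_restrict (commutator (G ⧸ K)) (isIrr_isCharacter hχ))
      (hirr hα) hne (n := m) hm ?_
    rw [hprod1, hαb]
    push_cast
    rfl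
  have hcard : Nat.card (G ⧸ K) ≤ m ^ (3 * c) := by
    have h2 := card_le hmin hna hn e
    have hS2 : 2 ≤ Nat.card S := Finite.one_lt_card
    calc Nat.card (G ⧸ K) ≤ n * Nat.card (MulAut S) ^ n := h2
      _ ≤ Nat.card S ^ n * (Nat.card S ^ 2) ^ n := by
          refine Nat.mul_le_mul ?_ (Nat.pow_le_pow_left (haut S hna) n)
          exact Nat.lt_two_pow_self.le.trans (Nat.pow_le_pow_left hS2 n)
      _ = Nat.card S ^ (3 * n) := by
          rw [← pow_mul, ← pow_add]
          congr 1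
          ring
      _ ≤ (b ^ c) ^ (3 * n) := Nat.pow_le_pow_left hbS _
      _ = (b ^ n) ^ (3 * c) := by
          rw [← pow_mul, ← pow_mul]
          congr 1
          ring
      _ ≤ m ^ (3 * c) := Nat.pow_le_pow_left hbm _
  have h2 := nonsolv_bound hk K (commutator (G ⧸ K)) (fun β hβ hβ1 => linear_trivial hβ hβ1)
    (fun β hβ hβ1 => faithful_of_min hmin hβ hβ1) Θ.2 hΘV hΘ1 hm hcard
  omega

end Cfsg.Agent.H59.FewDeg
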