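import Cfsg.Agent.H59.FewNorm

/-!
# The bound when there is a character of the quotient with irreducible restriction (helper59)
-/

set_option autoImplicit false

namespace Cfsg.Agent.H59.FewDeg

open Cfsg Cfsg.Agent.Characters.Core Cfsg.Agent.H681.DegBasic
open scoped ComplexConjugate

universe u

theorem nonsolv_bound {G : Type u} [Group G] [Finite G] {k : ℕ} (hk : Few k G) (K : Subgroup G) [K.Normal]
    (V : Subgroup (G ⧸ K))
    (hV : ∀ β : G ⧸ K → ℂ, IsIrrCharacter (G ⧸ K) β → β 1 = 1 → ∀ v ∈ V, β v = 1)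
    (hf : ∀ β : G ⧸ K → ℂ, IsIrrCharacter (G ⧸ K) β → β 1 ≠ 1 → ∀ g, β g = β 1 → g = 1)
    {θ : G ⧸ K → ℂ} (hθ : IsIrrCharacter (G ⧸ K) θ) (hθV : IsIrrCharacter V (fun v : V => θ v)) (hθ1 : θ 1 ≠ 1)
    {b c : ℕ} (hb : b ∈ charDegrees (G ⧸ K)) (hbc : Nat.card (G ⧸ K) ≤ b ^ c) :
    (charDegrees G).ncard ≤ k + 2 * k * ((2 * (c * k) + 1) * c) := by
  classical
  have := Fintype.ofFinite G
  have := Fintype.ofFinite K
  -- the minimal degree
  obtain ⟨D, ⟨hDmem, hD1⟩, hDmin⟩ : ∃ D, (D ∈ charDegrees (G ⧸ K) ∧ D ≠ 1) ∧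
      ∀ e, e ∈ charDegrees (G ⧸ K) ∧ e ≠ 1 → D ≤ e := by
    obtain ⟨t, ht, ht'⟩ := isIrr_apply_one hθ
    have hex : ∃ D, D ∈ charDegrees (G ⧸ K) ∧ D ≠ 1 :=
      ⟨t, mem_charDegrees.2 ⟨θ, hθ, ht'⟩, fun h => hθ1 (by rw [ht', h, Nat.cast_one])⟩
    exact ⟨Nat.find hex, Nat.find_spec hex, fun e he => Nat.find_min' hex he⟩
  have hD2 : 2 ≤ D := by
    have := pos_of_mem hDmem
    omega
  obtain ⟨Φ, hΦ, hΦD⟩ := mem_charDegrees.1 hDmem
  have hΦf := hf Φ hΦ (by rw [hΦD]; exact_mod_cast hD1)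
  have hcard := card_le_pow (hk.quot K) (isIrr_isCharacter hΦ) hΦf hΦD hD2 hb hbc
  set C := (2 * (c * k) + 1) * c with hC
  -- the two kinds of degrees
  set S1 : Set ℕ := {n | ∃ χ : G → ℂ, IsIrrCharacter G χ ∧ χ 1 = n ∧ ∃ β : G ⧸ K → ℂ, IsIrrCharacter (G ⧸ K) β ∧
    β 1 ≠ 1 ∧ classInner (sqc χ) (fun g : G => β (g : G ⧸ K)) ≠ 0} with hS1
  set S2 : Set ℕ := {n | ∃ χ : G → ℂ, IsIrrCharacter G χ ∧ χ 1 = n ∧ ∀ β : G ⧸ K → ℂ, IsIrrCharacter (G ⧸ K) β →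
    β 1 ≠ 1 → classInner (sqc χ) (fun g : G => β (g : G ⧸ K)) = 0} with hS2
  have hsub : charDegrees G ⊆ S2 ∪ S1 := by
    intro n hn
    obtain ⟨χ, hχ, hn'⟩ := mem_charDegrees.1 hn
    by_cases h : ∃ β : G ⧸ K → ℂ, IsIrrCharacter (G ⧸ K) β ∧
      β 1 ≠ 1 ∧ classInner (sqc χ) (fun g : G => β (g : G ⧸ K)) ≠ 0
    · exact Or.inr ⟨χ, hχ, hn', h⟩
    · push Not at h
      exact Or.inl ⟨χ, hχ, hn', h⟩
  have hS1d : ∀ n ∈ S1, n ∈ charDegrees G := fun n ⟨χ, hχ, hn, _⟩ => mem_charDegrees.2 ⟨χ, hχ, hn⟩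
  have hS2d : ∀ n ∈ S2, n ∈ charDegrees G := fun n ⟨χ, hχ, hn, _⟩ => mem_charDegrees.2 ⟨χ, hχ, hn⟩
  have hfin1 : S1.Finite := (finite_degrees G).subset hS1d
  have hfin2 : S2.Finite := (finite_degrees G).subset hS2d
  -- second kind
  have h2 : S2.ncard ≤ k := by
    obtain ⟨t, ht, ht'⟩ := isIrr_apply_one hθ
    have ht1 : 1 < t := by
      rcases Nat.lt_or_ge 1 t with h | h
      · exact h
      · exfalso
        apply hθ1
        rw [ht', show t = 1 by omega, Nat.cast_one]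
    refine hk.ncard_le_of_mul ht1 ?_
    rintro n ⟨χ, hχ, hn, hlin⟩
    refine mem_charDegrees.2 ⟨_, isIrr_twist K V hV hχ hlin hθ hθV, ?_⟩
    show χ 1 * θ ((1 : G) : G ⧸ K) = _
    rw [QuotientGroup.mk_one, hn, ht', mul_comm]
    push_cast
    rfl
  -- first kind
  have h1 : S1.ncard ≤ 2 * k * C := by
    have hB : ∀ n : ℕ, ∃ B : ℕ, n ∈ S1 → B ∣ n ∧ B ∣ Nat.card (G ⧸ K) ∧ D ≤ B ^ 2 := by
      intro n
      by_cases hn : n ∈ S1
      · obtain ⟨χ, hχ, hn, β, hβ, hβ1, hne⟩ := id hn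
        obtain ⟨ψ, d, hψ, hψd, hψne, hd1, hd2⟩ := exists_constituent K hχ hn
        obtain ⟨m, hm, hm'⟩ := isIrr_apply_one hβ
        obtain ⟨s, hs⟩ := classInner_isNat
          (Cfsg.Agent.Characters.Clifford.isCharacter_restrict K (isIrr_isCharacter hχ))
          (Cfsg.Agent.Characters.Clifford.isCharacter_restrict K (isIrr_isCharacter hχ))
        have h3 : m ≤ s := degree_le_norm K (isIrr_isCharacter hχ) hβ hm' hne hs
        have h4 := norm_mul_sq_le K hχ hψ hψne hn hψd hs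
        have h5 : D ≤ m := hDmin m ⟨mem_charDegrees.2 ⟨β, hβ, hm'⟩, fun h => hβ1 (by rw [hm', h, Nat.cast_one])⟩
        have hd0 : 0 < d := by
          have h6 : d ∈ charDegrees K := mem_charDegrees.2 ⟨ψ, hψ, hψd⟩
          exact pos_of_mem h6
        refine ⟨n / d, fun _ => ⟨Nat.div_dvd_of_dvd hd1, ?_, ?_⟩⟩
        · rw [← Subgroup.index_eq_card]; exact hd2
        · have h6 : n / d * d = n := Nat.div_mul_cancel hd1
          have h7 : s * d ^ 2 ≤ (n / d) ^ 2 * d ^ 2 := by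
            rw [← mul_pow, h6]; exact h4
          have h8 := Nat.le_of_mul_le_mul_right h7 (Nat.pow_pos hd0)
          omega
      · exact ⟨0, fun h => absurd h hn⟩
    choose B hB using hB
    rw [Set.ncard_eq_toFinset_card S1 hfin1]
    set T := hfin1.toFinset with hT
    have hTm : ∀ n ∈ T, n ∈ S1 := fun n hn => hfin1.mem_toFinset.1 hn
    have h3 := hk.prod_dvd (D := T) (fun n hn => hS1d n (hTm n hn)) (A := Nat.card (G ⧸ K)) Nat.card_pos.ne' B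
      (fun n hn => (hB n (hTm n hn)).1) (fun n hn => (hB n (hTm n hn)).2.1)
    have h4 := Nat.le_of_dvd (Nat.pow_pos Nat.card_pos) h3
    have h5 : D ^ T.card ≤ (∏ n ∈ T, B n) ^ 2 := by
      rw [← Finset.prod_pow, ← Finset.prod_const]
      exact Finset.prod_le_prod' fun n hn => (hB n (hTm n hn)).2.2
    have h6 : D ^ T.card ≤ D ^ (2 * k * C) := by
      calc D ^ T.card ≤ (∏ n ∈ T, B n) ^ 2 := h5
        _ ≤ (Nat.card (G ⧸ K) ^ k) ^ 2 := Nat.pow_le_pow_left h4 2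
        _ ≤ ((D ^ C) ^ k) ^ 2 := Nat.pow_le_pow_left (Nat.pow_le_pow_left hcard k) 2
        _ = D ^ (2 * k * C) := by
          rw [← pow_mul, ← pow_mul]
          congr 1
          ring
    exact (Nat.pow_le_pow_iff_right (by omega : 1 < D)).1 h6
  calc (charDegrees G).ncard ≤ (S2 ∪ S1).ncard := Set.ncard_le_ncard hsub (hfin2.union hfin1)
    _ ≤ S2.ncard + S1.ncard := Set.ncard_union_le _ _
    _ ≤ k + 2 * k * C := Nat.add_le_add h2 h1

end Cfsg.Agent.H59.FewDeg
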