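import Cfsg.Agent.H59.FewDense

/-!
# Norms of restrictions and products with inflated characters (helper59)

`K` normal in `G`, `sqc χ = χ \bar χ`.

* `degree_le_norm` : a constituent of `χ \bar χ` inflated from `G / K` has degree at most `[χ_K, χ_K]`;
* `norm_mul_sq_le` : `[χ_K, χ_K] ψ(1)² ≤ χ(1)²` for a constituent `ψ` of `χ_K`;
* `isIrr_twist` : if all constituents of `χ \bar χ` inflated from `G / K` are linear and `θ ∈ Irr(G / K)` restricts
  irreducibly to a subgroup contained in the kernels of the linear characters then `χ θ` is irreducible.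
-/

set_option autoImplicit false

namespace Cfsg.Agent.H59.FewDeg

open Cfsg Cfsg.Agent.Characters.Core Cfsg.Agent.H681.DegBasic
open scoped ComplexConjugate

universe u

/-- `χ \bar χ` -/
def sqc {X : Type u} (χ : X → ℂ) : X → ℂ := fun g => χ g * conj (χ g)

theorem isCharacter_sqc {X : Type u} [Group X] [Finite X] {χ : X → ℂ} (hχ : IsCharacter X χ) : IsCharacter X (sqc χ) :=
  isCharacter_mul hχ (isCharacter_conj hχ)

theorem classInner_sqc_one {X : Type u} [Group X] [Fintype X] (χ : X → ℂ) :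
    classInner (sqc χ) (1 : X → ℂ) = classInner χ χ := by
  rw [classInner_def, classInner_def]
  simp [sqc]

theorem degree_le_norm {G : Type u} [Group G] [Fintype G] (K : Subgroup G) [K.Normal] [Fintype K] {χ : G → ℂ}
    (hχ : IsCharacter G χ) {β : G ⧸ K → ℂ} (hβ : IsIrrCharacter (G ⧸ K) β) {m s : ℕ} (hm : β 1 = m)
    (hne : classInner (sqc χ) (fun g : G => β (g : G ⧸ K)) ≠ 0)
    (hs : classInner (fun x : K => χ x) (fun x : K => χ x) = s) : m ≤ s := by
  classical
  have := finite_irr (G := G)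
  have := Fintype.ofFinite (IrrCharacter G)
  obtain ⟨c, hc, hc'⟩ := Cfsg.Agent.CharDeep.CliffordCorr.exists_nat_coeffs (isCharacter_sqc hχ)
  choose t ht using fun η : IrrCharacter G => classInner_isNat
    (Cfsg.Agent.Characters.Clifford.isCharacter_restrict K (isIrr_isCharacter η.2)) (isCharacter_one (G := K))
  have h1 : (s : ℂ) = ∑ η : IrrCharacter G, (c η : ℂ) * (t η : ℂ) := by
    rw [← hs, ← classInner_sqc_one]
    have h2 : sqc (fun x : K => χ x) = ∑ η : IrrCharacter G, (c η : ℂ) • (fun x : K => (η : G → ℂ) x) := by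
      funext x
      have h3 := congrFun hc (x : G)
      rw [Finset.sum_apply] at h3 ⊢
      exact h3
    rw [h2, classInner_sum_left]
    refine Finset.sum_congr rfl fun η _ => ?_
    rw [classInner_smul_left, ht]
  have h2 : s = ∑ η : IrrCharacter G, c η * t η := by exact_mod_cast h1
  have hβG : IsIrrCharacter G (fun g : G => β (g : G ⧸ K)) :=
    isIrr_comp (QuotientGroup.mk' K) (QuotientGroup.mk'_surjective K) hβ
  set η0 : IrrCharacter G := ⟨_, hβG⟩ with hη0
  have h3 : c η0 ≠ 0 := by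
    intro h0
    apply hne
    have := hc' η0
    rw [h0, Nat.cast_zero] at this
    exact this
  have h4 : t η0 = m := by
    have h5 := ht η0
    have h6 : (fun x : K => (η0 : G → ℂ) x) = (m : ℂ) • (1 : K → ℂ) := by
      funext x
      show β ((x : G) : G ⧸ K) = _
      rw [(QuotientGroup.eq_one_iff (x : G)).2 x.2, hm]
      simp
    rw [h6, classInner_smul_left, classInner_irr_self isIrr_one, mul_one] at h5
    exact_mod_cast h5.symm
  rw [h2]
  calc m = 1 * t η0 := by rw [h4, one_mul]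
    _ ≤ c η0 * t η0 := Nat.mul_le_mul_right _ (Nat.one_le_iff_ne_zero.2 h3)
    _ ≤ _ := Finset.single_le_sum (f := fun η => c η * t η) (fun _ _ => Nat.zero_le _) (Finset.mem_univ _)

theorem norm_mul_sq_le {G : Type u} [Group G] [Fintype G] (K : Subgroup G) [K.Normal] [Fintype K] {χ : G → ℂ}
    (hχ : IsIrrCharacter G χ) {ψ : K → ℂ} (hψ : IsIrrCharacter K ψ) (hne : classInner (fun x : K => χ x) ψ ≠ 0)
    {n d s : ℕ} (hn : χ 1 = n) (hd : ψ 1 = d) (hs : classInner (fun x : K => χ x) (fun x : K => χ x) = s) :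
    s * d ^ 2 ≤ n ^ 2 := by
  classical
  have := finite_irr (G := K)
  have := Fintype.ofFinite (IrrCharacter K)
  obtain ⟨c, hc, hc'⟩ := Cfsg.Agent.CharDeep.CliffordCorr.exists_nat_coeffs
    (Cfsg.Agent.Characters.Clifford.isCharacter_restrict K (isIrr_isCharacter hχ))
  have hdeg : ∀ η : IrrCharacter K, c η ≠ 0 → (η : K → ℂ) 1 = d := by
    intro η hη
    have h1 : classInner (fun x : K => χ x) (η : K → ℂ) ≠ 0 := by
      rw [hc' η]; exact_mod_cast hη
    obtain ⟨g, hg⟩ := Cfsg.Agent.Characters.Clifford.exists_conj_of_constituents K hχ hψ η.2 hne h1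
    rw [hg, Function.comp_apply, map_one, hd]
  have h1 : (n : ℂ) = (∑ η : IrrCharacter K, (c η : ℂ)) * d := by
    rw [← hn]
    have h2 := congrFun hc 1
    rw [Finset.sum_apply] at h2
    rw [Finset.sum_mul]
    refine h2.trans (Finset.sum_congr rfl fun η _ => ?_)
    rw [Pi.smul_apply, smul_eq_mul]
    by_cases h0 : c η = 0
    · rw [h0]; simp
    · rw [hdeg η h0]
  have h2 : (s : ℂ) = ∑ η : IrrCharacter K, (c η : ℂ) * (c η : ℂ) := by
    rw [← hs]
    conv_lhs => rw [hc]
    rw [classInner_sum_smul_sum_smul]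
    refine Finset.sum_congr rfl fun η _ => ?_
    rw [Complex.conj_natCast]
  have h3 : n = (∑ η : IrrCharacter K, c η) * d := by exact_mod_cast h1
  have h4 : s = ∑ η : IrrCharacter K, c η * c η := by exact_mod_cast h2
  have h5 : s ≤ (∑ η : IrrCharacter K, c η) ^ 2 := by
    rw [h4, sq, Finset.sum_mul]
    refine Finset.sum_le_sum fun η _ => ?_
    exact Nat.mul_le_mul_left _ (Finset.single_le_sum (f := fun η => c η) (fun _ _ => Nat.zero_le _) (Finset.mem_univ η))
  calc s * d ^ 2 ≤ (∑ η : IrrCharacter K, c η) ^ 2 * d ^ 2 := Nat.mul_le_mul_right _ h5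
    _ = n ^ 2 := by rw [h3, mul_pow]

/-- The multiplicity in `θ \bar θ` of a linear character other than `1`. -/
theorem classInner_sqc_linear {Q : Type u} [Group Q] [Fintype Q] (V : Subgroup Q) {θ : Q → ℂ}
    (hθ : IsIrrCharacter Q θ) (hθV : IsIrrCharacter V (fun v : V => θ v)) {β : Q → ℂ} (hβ : IsIrrCharacter Q β)
    (hβV : ∀ v ∈ V, β v = 1) (hβ1 : β ≠ 1) : classInner (sqc θ) β = 0 := by
  classical
  have := Fintype.ofFinite V
  have := finite_irr (G := Q)
  have := Fintype.ofFinite (IrrCharacter Q)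
  obtain ⟨c, hc, hc'⟩ := Cfsg.Agent.CharDeep.CliffordCorr.exists_nat_coeffs (isCharacter_sqc (isIrr_isCharacter hθ))
  choose t ht using fun η : IrrCharacter Q => classInner_isNat
    (Cfsg.Agent.Characters.Clifford.isCharacter_restrict V (isIrr_isCharacter η.2)) (isCharacter_one (G := V))
  have h1 : ((1 : ℕ) : ℂ) = ∑ η : IrrCharacter Q, (c η : ℂ) * (t η : ℂ) := by
    rw [Nat.cast_one, ← classInner_irr_self hθV, ← classInner_sqc_one]
    have h2 : sqc (fun x : V => θ x) = ∑ η : IrrCharacter Q, (c η : ℂ) • (fun x : V => (η : Q → ℂ) x) := by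
      funext x
      have h3 := congrFun hc (x : Q)
      rw [Finset.sum_apply] at h3 ⊢
      exact h3
    rw [h2, classInner_sum_left]
    refine Finset.sum_congr rfl fun η _ => ?_
    rw [classInner_smul_left, ht]
  have h2 : 1 = ∑ η : IrrCharacter Q, c η * t η := by exact_mod_cast h1
  set e1 : IrrCharacter Q := ⟨1, isIrr_one⟩ with he1
  set eβ : IrrCharacter Q := ⟨β, hβ⟩ with heβ
  have hne : eβ ≠ e1 := fun h => hβ1 (congrArg Subtype.val h)
  have h3 : c e1 = 1 := by
    have h4 := hc' e1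
    have h5 : classInner (sqc θ) (1 : Q → ℂ) = 1 := by rw [classInner_sqc_one, classInner_irr_self hθ]
    have h6 : (c e1 : ℂ) = 1 := h4.symm.trans h5
    exact_mod_cast h6
  have ht1 : ∀ η : IrrCharacter Q, (∀ v ∈ V, (η : Q → ℂ) v = 1) → t η = 1 := by
    intro η hη
    have h5 := ht η
    have h6 : (fun x : V => (η : Q → ℂ) x) = (1 : V → ℂ) := by
      funext x
      exact hη x x.2
    rw [h6, classInner_irr_self isIrr_one] at h5
    exact_mod_cast h5.symm
  have h4 : c eβ * t eβ + c e1 * t e1 ≤ 1 := by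
    calc c eβ * t eβ + c e1 * t e1 = ∑ η ∈ {eβ, e1}, c η * t η := by rw [Finset.sum_pair hne]
      _ ≤ ∑ η : IrrCharacter Q, c η * t η := Finset.sum_le_sum_of_subset (Finset.subset_univ _)
      _ = 1 := h2.symm
  rw [ht1 eβ hβV, ht1 e1 (fun _ _ => rfl), h3] at h4
  have h5 : c eβ = 0 := by omega
  have h6 := hc' eβ
  rw [h5, Nat.cast_zero] at h6
  exact h6

/-- **Twisting**: if all constituents of `χ \bar χ` inflated from `G / K` are linear and `θ ∈ Irr(G / K)` restricts
irreducibly to `V` then `χ θ` is irreducible. -/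
theorem isIrr_twist {G : Type u} [Group G] [Fintype G] (K : Subgroup G) [K.Normal] (V : Subgroup (G ⧸ K))
    (hV : ∀ β : G ⧸ K → ℂ, IsIrrCharacter (G ⧸ K) β → β 1 = 1 → ∀ v ∈ V, β v = 1)
    {χ : G → ℂ} (hχ : IsIrrCharacter G χ)
    (hlin : ∀ β : G ⧸ K → ℂ, IsIrrCharacter (G ⧸ K) β → β 1 ≠ 1 → classInner (sqc χ) (fun g : G => β (g : G ⧸ K)) = 0)
    {θ : G ⧸ K → ℂ} (hθ : IsIrrCharacter (G ⧸ K) θ) (hθV : IsIrrCharacter V (fun v : V => θ v)) :
    IsIrrCharacter G (fun g : G => χ g * θ (g : G ⧸ K)) := by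
  classical
  have := Fintype.ofFinite (G ⧸ K)
  have := finite_irr (G := G ⧸ K)
  have := Fintype.ofFinite (IrrCharacter (G ⧸ K))
  have hθG : IsIrrCharacter G (fun g : G => θ (g : G ⧸ K)) :=
    isIrr_comp (QuotientGroup.mk' K) (QuotientGroup.mk'_surjective K) hθ
  refine isIrr_of_classInner_self (isCharacter_mul (isIrr_isCharacter hχ) (isIrr_isCharacter hθG)) ?_
  obtain ⟨c, hc, hc'⟩ := Cfsg.Agent.CharDeep.CliffordCorr.exists_nat_coeffs (isCharacter_sqc (isIrr_isCharacter hθ))
  have h1 : classInner (fun g : G => χ g * θ (g : G ⧸ K)) (fun g : G => χ g * θ (g : G ⧸ K)) =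
      classInner (sqc χ) (fun g : G => sqc θ (g : G ⧸ K)) := by
    rw [classInner_def, classInner_def]
    congr 1
    refine Finset.sum_congr rfl fun g _ => ?_
    simp only [sqc, map_mul, Complex.conj_conj]
    ring
  have h2 : (fun g : G => sqc θ (g : G ⧸ K)) =
      ∑ η : IrrCharacter (G ⧸ K), (c η : ℂ) • (fun g : G => (η : G ⧸ K → ℂ) (g : G ⧸ K)) := by
    funext g
    have h3 := congrFun hc (g : G ⧸ K)
    rw [Finset.sum_apply] at h3 ⊢
    exact h3
  show classInner (fun g : G => χ g * θ (g : G ⧸ K)) (fun g : G => χ g * θ (g : G ⧸ K)) = 1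
  rw [h1, h2, classInner_sum_right, Finset.sum_eq_single (⟨1, isIrr_one⟩ : IrrCharacter (G ⧸ K))]
  · rw [classInner_smul_right]
    have h3 : (c ⟨1, isIrr_one⟩ : ℂ) = 1 := by
      rw [← hc']
      show classInner (sqc θ) (1 : G ⧸ K → ℂ) = 1
      rw [classInner_sqc_one, classInner_irr_self hθ]
    rw [h3, map_one, one_mul]
    show classInner (sqc χ) (1 : G → ℂ) = 1
    rw [classInner_sqc_one, classInner_irr_self hχ]
  · intro η _ hη
    rw [classInner_smul_right]
    by_cases h1 : (η : G ⧸ K → ℂ) 1 = 1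
    · have h3 : (c η : ℂ) = 0 := by
        rw [← hc']
        exact classInner_sqc_linear V hθ hθV η.2 (hV η η.2 h1) (fun h => hη (Subtype.ext h))
      rw [h3, map_zero, zero_mul]
    · rw [hlin η η.2 h1, mul_zero]
  · intro h
    exact absurd (Finset.mem_univ _) h

end Cfsg.Agent.H59.FewDeg
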