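import Cfsg.Agent.H59.FewStar
import Cfsg.Agent.H761.LieExt
import Cfsg.Agent.H977.LieOrd
import Cfsg.Agent.H912.KnownSplit
import Cfsg.Agent.H36.Sims.Spor
import Cfsg.Agent.H875.AltCop
import Cfsg.Agent.H235.ExtRows
import Cfsg.Agent.H489.OutAll
import Cfsg.Agent.S4198
import Cfsg.Agent.S4476

/-!
# Facts on the finite simple groups used for S4995 (helper59)

* `exists_ext` : some non-principal irreducible character extends to the automorphism group;
* `exists_big` : some degree `b` satisfies `|S| ≤ b ^ c`, `c` an absolute constant;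
* `card_aut_le` : `|Aut S| ≤ |S| ^ 2`.
-/

set_option autoImplicit false

namespace Cfsg.Agent.H59.FewDeg

open Cfsg Cfsg.Agent.Characters.Core Cfsg.Agent.H681.DegBasic Cfsg.Agent.H671.H5

universe u

/-- the known simple groups, split -/
theorem split {S : Type u} [Group S] (hna : ¬ IsMulCommutative S) (hK : IsKnownSimple' S) :
    IsAlternating S ∨ (∃ r, r.Prime ∧ IsLieTypeChar r S) ∨ Lie.IsoTits S ∨ IsSporadicGroup S := by
  refine Cfsg.Agent.H912.Known.known_split hK fun h => hna ?_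
  have h1 : Fact (Nat.card S).Prime := ⟨h⟩
  have h2 : IsCyclic S := isCyclic_of_prime_card (p := Nat.card S) rfl
  exact IsCyclic.isMulCommutative

theorem exists_ext {S : Type u} [Group S] [Finite S] [IsSimpleGroup S] (hna : ¬ IsMulCommutative S)
    (hK : IsKnownSimple' S) : ∃ θ : IrrCharacter S, charDegree (θ : S → ℂ) ≠ 1 ∧ ExtAut θ := by
  rcases split hna hK with ⟨n, hn, h⟩ | ⟨r, hr, h⟩ | h | h
  · exact (H875.AltCop.alt_facts (fun p _ S _ _ _ hna h => H761.LieExt.lie_ext hna h) hn hna h).2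
  · have := Fact.mk hr
    obtain ⟨θ, h1, h2⟩ := H761.LieExt.lie_ext (p := r) hna h
    refine ⟨θ, ?_, h2⟩
    rw [h1]
    intro h3
    have h4 := (H977.LieOrd.main hr h).1
    rw [mul_comm, pow_mul, h3, one_pow] at h4
    have := Nat.card_pos (α := S)
    omega
  · exact H235.ExtOut.ext_tits hna h
  · exact H235.ExtOut.ext_sporadic hna h

theorem card_aut_le {S : Type u} [Group S] [Finite S] [IsSimpleGroup S] (hna : ¬ IsMulCommutative S)
    (hK : IsKnownSimple' S) : Nat.card (MulAut S) ≤ Nat.card S ^ 2 := by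
  have hZ : Subgroup.center S = ⊥ := by
    rcases (inferInstance : (Subgroup.center S).Normal).eq_bot_or_eq_top with h | h
    · exact h
    · exfalso
      apply hna
      refine ⟨⟨fun a b => ?_⟩⟩
      exact Subgroup.mem_center_iff.1 (h ▸ Subgroup.mem_top b) a
  have h1 := H489.ok_known hna hK
  have h2 : Nat.card (Out S) * Nat.card S = Nat.card (MulAut S) := H489.card_out_mul hZ
  have h60 := H489.sixty_le hna
  unfold H489.OutOK at h1
  have h3 : Nat.card (Out S) ≤ Nat.card S := by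
    by_contra hcon
    push Not at hcon
    have h4 : Nat.card S ^ 2 ≤ Nat.card (Out S) ^ 2 := Nat.pow_le_pow_left hcon.le 2
    have h5 : Nat.card (Out S) ^ 2 ≤ Nat.card (Out S) ^ 5 := Nat.pow_le_pow_right (by omega) (by norm_num)
    have h6 : 0 < Nat.card S ^ 2 := Nat.pow_pos (by omega)
    omega
  rw [← h2, sq]
  exact Nat.mul_le_mul_right _ h3

/-- a large degree from the class number -/
theorem exists_sq_ge (G : Type u) [Group G] [Finite G] :
    ∃ b ∈ charDegrees G, Nat.card G ≤ Nat.card (ConjClasses G) * b ^ 2 := by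
  classical
  have := finite_irr (G := G)
  have := Fintype.ofFinite (IrrCharacter G)
  have hne : Nonempty (IrrCharacter G) := ⟨⟨1, isIrr_one⟩⟩
  obtain ⟨χ, -, hχ⟩ := Finset.exists_max_image (Finset.univ : Finset (IrrCharacter G))
    (fun χ => charDegree (χ : G → ℂ)) Finset.univ_nonempty
  refine ⟨_, ⟨χ, rfl⟩, ?_⟩
  rw [← S4476.sum_sq (G := G), ← card_irr, Nat.card_eq_fintype_card]
  calc ∑ ψ : IrrCharacter G, charDegree (ψ : G → ℂ) ^ 2 ≤ ∑ _ψ : IrrCharacter G, charDegree (χ : G → ℂ) ^ 2 :=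
        Finset.sum_le_sum fun ψ _ => Nat.pow_le_pow_left (hχ ψ (Finset.mem_univ ψ)) 2
    _ = _ := by rw [Finset.sum_const, Finset.card_univ, smul_eq_mul]

theorem factorial_ge {n : ℕ} (hn : 6 ≤ n) : 2 * 4 ^ (n - 2) ≤ n.factorial := by
  obtain ⟨m, rfl⟩ := Nat.exists_eq_add_of_le hn
  induction m with
  | zero => decide
  | succ m ih =>
    have h1 := ih (by omega)
    rw [show 6 + (m + 1) = (6 + m) + 1 by ring, Nat.factorial_succ, show 6 + m + 1 - 2 = (6 + m - 2) + 1 by omega,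
      pow_succ]
    have h2 : 4 * (2 * 4 ^ (6 + m - 2)) ≤ (6 + m + 1) * (6 + m).factorial :=
      Nat.mul_le_mul (by omega) h1
    linarith

theorem alt_big {n : ℕ} (hn : 5 ≤ n) : ∃ b ∈ charDegrees (alternatingGroup (Fin n)),
    Nat.card (alternatingGroup (Fin n)) ≤ b ^ 4 := by
  obtain ⟨b, hb, h⟩ := exists_sq_ge (alternatingGroup (Fin n))
  refine ⟨b, hb, ?_⟩
  obtain ⟨h1, h2⟩ := S4198.result n hn
  have hc : 2 * Nat.card (alternatingGroup (Fin n)) = n.factorial := by
    have : Nontrivial (Fin n) := Fin.nontrivial_iff_two_le.2 (by omega)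
    rw [Nat.card_eq_fintype_card, two_mul_card_alternatingGroup, Fintype.card_perm, Fintype.card_fin]
  have h3 : Nat.card (alternatingGroup (Fin n)) ≤ 2 ^ (n - 2) * b ^ 2 :=
    h.trans (Nat.mul_le_mul_right _ (h1.le.trans h2))
  have h4 : 2 ^ (n - 2) ≤ b ^ 2 := by
    rcases (by omega : n = 5 ∨ 6 ≤ n) with rfl | h6
    · have h5 : Nat.card (alternatingGroup (Fin 5)) = 60 := by
        have : Nat.factorial 5 = 120 := rfl
        omega
      rw [h5] at h3
      have h6 : 3 ≤ b := by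
        by_contra hb3
        have : b ^ 2 ≤ 2 ^ 2 := Nat.pow_le_pow_left (by omega) 2
        omega
      have : 3 ^ 2 ≤ b ^ 2 := Nat.pow_le_pow_left h6 2
      omega
    · have h7 := factorial_ge h6
      have h8 : 4 ^ (n - 2) = 2 ^ (n - 2) * 2 ^ (n - 2) := by
        rw [← mul_pow]
        norm_num
      have h9 : 2 ^ (n - 2) * 2 ^ (n - 2) ≤ 2 ^ (n - 2) * b ^ 2 := by omega
      exact Nat.le_of_mul_le_mul_left h9 (Nat.pow_pos (by norm_num))
  calc Nat.card (alternatingGroup (Fin n)) ≤ 2 ^ (n - 2) * b ^ 2 := h3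
    _ ≤ b ^ 2 * b ^ 2 := Nat.mul_le_mul_right _ h4
    _ = b ^ 4 := by ring

theorem exists_big : ∃ c : ℕ, ∀ (S : Type u) [Group S] [Finite S] [IsSimpleGroup S], ¬ IsMulCommutative S →
    IsKnownSimple' S → ∃ b ∈ charDegrees S, Nat.card S ≤ b ^ c := by
  obtain ⟨F, hF⟩ := H36.Sims.Spor.spor_bound.{u}
  refine ⟨F + 4, fun S _ _ _ hna hK => ?_⟩
  have hspor : IsSporadicGroup S ∨ Lie.IsoTits S → ∃ b ∈ charDegrees S, Nat.card S ≤ b ^ (F + 4) := by
    intro h
    obtain ⟨θ, h1, -⟩ := exists_ext hna hK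
    refine ⟨_, ⟨θ, rfl⟩, ?_⟩
    have h2 := pos_of_mem (G := S) ⟨θ, rfl⟩
    have h3 : 2 ≤ charDegree (θ : S → ℂ) := by omega
    calc Nat.card S ≤ F := hF h
      _ ≤ 2 ^ F := Nat.lt_two_pow_self.le
      _ ≤ charDegree (θ : S → ℂ) ^ F := Nat.pow_le_pow_left h3 F
      _ ≤ charDegree (θ : S → ℂ) ^ (F + 4) := Nat.pow_le_pow_right (by omega) (by omega)
  rcases split hna hK with ⟨n, hn, ⟨e⟩⟩ | ⟨r, hr, h⟩ | h | h
  · obtain ⟨b, hb, h⟩ := alt_big hn
    refine ⟨b, charDegrees_comp (e : S →* alternatingGroup (Fin n)) e.surjective hb, ?_⟩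
    rw [Nat.card_congr e.toEquiv]
    exact h.trans (Nat.pow_le_pow_right (pos_of_mem hb) (by omega))
  · have := Fact.mk hr
    obtain ⟨θ, h1, -⟩ := H761.LieExt.lie_ext (p := r) hna h
    have h4 := (H977.LieOrd.main hr h).1
    refine ⟨_, ⟨θ, h1⟩, ?_⟩
    rw [mul_comm, pow_mul] at h4
    exact h4.le.trans (Nat.pow_le_pow_right (Nat.pow_pos hr.pos) (by omega))
  · exact hspor (Or.inr h)
  · exact hspor (Or.inl h)

end Cfsg.Agent.H59.FewDeg
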