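import Cfsg.Agent.H681.DegBasic

/-!
# Groups in which every prime divides few character degrees: the product inequality (helper59)

* `Few k G` : every prime divides at most `k` degrees of irreducible characters of `G`;
* `Few.prod_dvd` : if `b d ∣ d` and `b d ∣ A` for the members `d` of a set `D` of degrees then `∏ b d ∣ A ^ k`.
-/

set_option autoImplicit false

namespace Cfsg.Agent.H59.FewDeg

open Cfsg Cfsg.Agent.H681.DegBasic

universe u

/-- every prime divides at most `k` degrees -/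
def Few (k : ℕ) (G : Type u) [Group G] : Prop :=
  ∀ p : ℕ, p.Prime → Set.ncard {d ∈ charDegrees G | p ∣ d} ≤ k

theorem finite_degrees (G : Type u) [Group G] [Finite G] : (charDegrees G).Finite := by
  refine (Finset.finite_toSet (Nat.card G).divisors).subset fun d hd => ?_
  rw [Finset.mem_coe, Nat.mem_divisors]
  exact ⟨dvd_card hd, Nat.card_pos.ne'⟩

theorem prod_dvd_pow {D : Finset ℕ} {k A : ℕ} (hA : A ≠ 0) (b : ℕ → ℕ) (h1 : ∀ d ∈ D, b d ∣ d)
    (h2 : ∀ d ∈ D, b d ∣ A) (hk : ∀ p : ℕ, p.Prime → (D.filter (p ∣ ·)).card ≤ k) :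
    ∏ d ∈ D, b d ∣ A ^ k := by
  have hb0 : ∀ d ∈ D, b d ≠ 0 := fun d hd h => hA (by
    have := h2 d hd
    rw [h] at this
    exact Nat.eq_zero_of_zero_dvd this)
  rw [← Nat.factorization_prime_le_iff_dvd (Finset.prod_ne_zero_iff.2 hb0) (pow_ne_zero _ hA)]
  intro p hp
  rw [Nat.factorization_prod hb0, Nat.factorization_pow, Finsupp.finsetSum_apply, Finsupp.smul_apply, smul_eq_mul]
  have h3 : ∑ d ∈ D, (b d).factorization p = ∑ d ∈ D.filter (p ∣ ·), (b d).factorization p := by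
    rw [Finset.sum_filter]
    refine Finset.sum_congr rfl fun d hd => ?_
    split_ifs with h
    · rfl
    · exact Nat.factorization_eq_zero_of_not_dvd fun h' => h (h'.trans (h1 d hd))
  rw [h3]
  calc ∑ d ∈ D.filter (p ∣ ·), (b d).factorization p ≤ ∑ _d ∈ D.filter (p ∣ ·), A.factorization p := by
        refine Finset.sum_le_sum fun d hd => ?_
        have hd' := (Finset.mem_filter.1 hd).1
        exact (Nat.factorization_le_iff_dvd (hb0 d hd') hA).2 (h2 d hd') p
    _ = (D.filter (p ∣ ·)).card * A.factorization p := by rw [Finset.sum_const, smul_eq_mul]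
    _ ≤ k * A.factorization p := Nat.mul_le_mul_right _ (hk p hp)

variable {G : Type u} [Group G] [Finite G] {k : ℕ}

theorem Few.card_le (h : Few k G) {p : ℕ} (hp : p.Prime) {D : Finset ℕ} (hD : ∀ d ∈ D, d ∈ charDegrees G)
    (hpD : ∀ d ∈ D, p ∣ d) : D.card ≤ k := by
  refine le_trans ?_ (h p hp)
  rw [← Set.ncard_coe_finset]
  refine Set.ncard_le_ncard ?_ ((finite_degrees G).subset fun d hd => hd.1)
  intro d hd
  exact ⟨hD d hd, hpD d hd⟩

theorem Few.ncard_le (h : Few k G) {p : ℕ} (hp : p.Prime) {D : Set ℕ} (hD : ∀ d ∈ D, d ∈ charDegrees G)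
    (hpD : ∀ d ∈ D, p ∣ d) : D.ncard ≤ k := by
  refine le_trans ?_ (h p hp)
  refine Set.ncard_le_ncard ?_ ((finite_degrees G).subset fun d hd => hd.1)
  intro d hd
  exact ⟨hD d hd, hpD d hd⟩

theorem Few.prod_dvd (h : Few k G) {D : Finset ℕ} (hD : ∀ d ∈ D, d ∈ charDegrees G) {A : ℕ} (hA : A ≠ 0) (b : ℕ → ℕ)
    (h1 : ∀ d ∈ D, b d ∣ d) (h2 : ∀ d ∈ D, b d ∣ A) : ∏ d ∈ D, b d ∣ A ^ k := by
  refine prod_dvd_pow hA b h1 h2 fun p hp => ?_
  refine h.card_le hp (fun d hd => hD d (Finset.mem_filter.1 hd).1) fun d hd => (Finset.mem_filter.1 hd).2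

/-- A set of numbers a constant multiple of which are degrees. -/
theorem Few.ncard_le_of_mul (h : Few k G) {c : ℕ} (hc : 1 < c) {D : Set ℕ} (hD : ∀ d ∈ D, c * d ∈ charDegrees G) :
    D.ncard ≤ k := by
  obtain ⟨p, hp, hpc⟩ := Nat.exists_prime_and_dvd hc.ne'
  have hinj : Function.Injective (fun d : ℕ => c * d) := fun a b hab => Nat.eq_of_mul_eq_mul_left (by omega) hab
  rw [← Set.ncard_image_of_injective D hinj]
  refine h.ncard_le hp ?_ ?_
  · rintro _ ⟨d, hd, rfl⟩
    exact hD d hd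
  · rintro _ ⟨d, hd, rfl⟩
    exact Dvd.dvd.mul_right hpc _

omit [Finite G] in
theorem Few.quot [Finite G] (h : Few k G) (K : Subgroup G) [K.Normal] : Few k (G ⧸ K) := by
  intro p hp
  refine h.ncard_le hp ?_ ?_
  · intro d hd
    exact charDegrees_comp (QuotientGroup.mk' K) (QuotientGroup.mk'_surjective K) hd.1
  · intro d hd
    exact hd.2

end Cfsg.Agent.H59.FewDeg
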