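import Cfsg.Agent.H64.AsmP
import Cfsg.Agent.KFacts.Mult.TwESixBig
import Cfsg.Agent.Nodes.RGDTwNode
import Cfsg.Agent.ChevalleyStructure.FixedCard

/-!
# Odd defining characteristic: no perfect central extensions by `p`-groups of the groups obtained by folding

For `FoldData`, `FoldGrp` (`Nodes/RGDFold`) with the nodes of `Nodes/RGDFoldSL`:

* `TE g χ` : `g` acts on the root elements by the character `χ`;
* `noCov_of_fold` : no perfect central extensions by `p`-groups from separation of the classes of positive roots;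
* `abPre_node` : commutative preimages of the root groups of the fundamental roots, parameter field of order `≥ 5`;
* `abPre_three` : parameter field of order 3.
-/

set_option autoImplicit false
set_option linter.unusedSectionVars false
set_option maxHeartbeats 400000

namespace Cfsg.Agent.H59.FoldP

open Subgroup Cfsg.Agent.KFacts.Mult.FoldW
open Cfsg.Agent.H64.AsmP (LCom AbPre ker_eq_bot_of_torus abPre_all)
open Cfsg.Agent.H51.Mult (PCE NoCov)
open Cfsg.Agent.KFacts.Mult (Chev.diag_comm Chev.comm_of_scalar)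
open Cfsg.Agent.KFacts.Mult.RGDW (GG_eq_top_of_G1)
open CoxeterSystem Cfsg.Agent.ChevalleyStructure.CoxeterGeom Cfsg.Agent.Tits.Roots Cfsg.Agent.Tits.Core
  Cfsg.Agent.Nodes.BNOf Cfsg.Agent.Nodes.RGDTwGen Cfsg.Agent.Nodes.RGDChev Cfsg.Agent.Nodes.RGDFold
  Cfsg.Agent.Nodes.RGDFoldSL
open Cfsg.Agent.Tits.RootComb Cfsg.Agent.Nodes.Comb Cfsg.Agent.Nodes.Reps
open Cfsg.Lie Cfsg.Agent.ChevalleyStructure Cfsg.Agent.ChevalleyStructure.Elts
  Cfsg.Agent.ChevalleyStructure.TwistedU Cfsg.Agent.ChevalleyStructure.TwistedFix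
  Cfsg.Agent.ChevalleyStructure.TwistedFixOrbit
open Cfsg.Agent.ChevalleyStructure.SL2Hom (up lo mem_closure_SL2)
open scoped commutatorElement

universe u

section Main

variable {D : ChevalleyDatum} {l : ℕ} {M' : CoxeterMatrix (Fin l)} {hp : IsType D l M'} {K : Type u} [Field K]
  {m : ℕ} {M : CoxeterMatrix (Fin m)} {A : Fin m → Fin m → ℤ} {J : Fin m → List (Fin l)} {L : List (List ℕ)}
  {σ : GL D.Idx K →* GL D.Idx K} {ρ ρ' : ℕ → ℕ} {f : ℕ → K → K} {G : Subgroup (GL D.Idx K)}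

/-! ### Elements acting by a character -/

/-- `g` acts on the root elements by the character `χ` -/
def TE (hp : IsType D l M') (g : GL D.Idx K) (χ : ℕ → K) : Prop :=
  ∀ s < D.nroots, ∀ a : K, g * xG hp.inList s a * g⁻¹ = xG hp.inList s (χ s * a)

theorem TE.one : TE hp (1 : GL D.Idx K) fun _ => 1 := by
  intro s _ a
  rw [one_mul, inv_one, mul_one, one_mul]

theorem TE.mul {g k : GL D.Idx K} {χ ψ : ℕ → K} (h1 : TE hp g χ) (h2 : TE hp k ψ) :
    TE hp (g * k) fun s => χ s * ψ s := by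
  intro s hs a
  have e : g * k * xG hp.inList s a * (g * k)⁻¹ = g * (k * xG hp.inList s a * k⁻¹) * g⁻¹ := by group
  rw [e, h2 s hs, h1 s hs, mul_assoc]

theorem TE.congr {g : GL D.Idx K} {χ ψ : ℕ → K} (h : TE hp g χ) (he : ∀ s < D.nroots, χ s = ψ s) : TE hp g ψ := by
  intro s hs a
  rw [h s hs, he s hs]

/-- the character of the torus element of a block -/
def chi (D : ChevalleyDatum) {l : ℕ} (φ : K →+* K) : List (Fin l) → K → ℕ → K
  | [], _, _ => 1
  | j :: o, t, s => t ^ D.cartan j s * chi D φ o (φ t) s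

theorem te_hv {φ : K →+* K} (js : List (Fin l)) : ∀ (o : List ℕ), js.map (fun j : Fin l => D.simple (j : ℕ)) = o →
    (∀ s ∈ o, s < D.nroots) → ∀ {t : K}, t ≠ 0 → TE hp (hv (psi hp.inList K) φ o (hS t)) (chi D φ js t) := by
  induction js with
  | nil =>
    rintro o rfl _ t _
    exact TE.one
  | cons j js ih =>
    rintro o rfl ho t ht
    rw [List.map_cons] at ho ⊢
    have h1 : TE hp (psi hp.inList K (D.simple (j : ℕ)) (hS t)) fun s => t ^ D.cartan j s := by
      intro s hs a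
      rw [psi_hS hp.inList (ho _ List.mem_cons_self)]
      exact BruhatSplit.hG_simple_conj hp.inList (lt_rank hp j) hs ht a
    have h2 := ih _ rfl (fun s hs => ho s (List.mem_cons_of_mem _ hs)) ((map_ne_zero φ).2 ht)
    show TE hp (psi hp.inList K (D.simple (j : ℕ)) (hS t) *
      hv (psi hp.inList K) φ (js.map fun j : Fin l => D.simple (j : ℕ)) (Matrix.SpecialLinearGroup.map φ (hS t))) _
    rw [map_hS]
    exact h1.mul h2

variable {i : Fin m} {r : ℕ} {o : List ℕ} {φ : K →+* K}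

theorem te_Phi (FG : FoldGrp hp K J L σ ρ ρ' f G) (N : NodeOK D J L ρ i r o) (hf : ∀ s ∈ r :: o, ∀ t, f s t = φ t)
    {t : Fx φ (o.length + 1)} (ht : t ≠ 0) :
    TE hp ((Phi FG N hf (hS t) : ↥G) : GL D.Idx K) (chi D φ (J i) (t : K)) := by
  have h1 : ((Phi FG N hf (hS t) : ↥G) : GL D.Idx K) = hv (psi hp.inList K) φ (r :: o) (hS (t : K)) := by
    show Ph hp K N φ (Matrix.SpecialLinearGroup.map (Fx φ (o.length + 1)).subtype (hS t)) = _
    rw [map_hS]
    rfl
  rw [h1]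
  exact te_hv (J i) _ N.Jn N.lt ((map_ne_zero (Fx φ (o.length + 1)).subtype).2 ht)

/-! ### Root groups of classes -/

variable (hp σ G) in
/-- the root group of a class -/
abbrev Rc (o : List ℕ) : Subgroup ↥G := (rspan (xG (F := K) hp.inList) {k | k ∈ o} ⊓ fixS σ).subgroupOf G

theorem comm_of_TE {g : ↥G} {χ : ℕ → K} (hg : TE hp (g : GL D.Idx K) χ) {o : List ℕ} (hlt : ∀ k ∈ o, k < D.nroots)
    (h : ∀ k ∈ o, χ k = 1) : ∀ v ∈ Rc hp σ G o, g * v = v * g := by
  intro v hv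
  rw [mem_subgroupOf] at hv
  apply Subtype.ext
  refine comm_rspan (x := xG hp.inList) (S := {k | k ∈ o}) ?_ hv.1
  intro s hs t
  exact Chev.comm_of_scalar hp.inList (hg s (hlt s hs)) (h s hs) t

theorem free_of_TE (FG : FoldGrp hp K J L σ ρ ρ' f G) {g : ↥G} {χ : ℕ → K} (hg : TE hp (g : GL D.Idx K) χ)
    {o : List ℕ} (ho : o ∈ L) (hfil : filB L = true) (hlt : ∀ k ∈ o, k < D.nroots)
    (h : ∀ k ∈ o, χ k ≠ 1) : ∀ v ∈ Rc hp σ G o, g * v = v * g → v = 1 := by
  intro v hv hc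
  rw [mem_subgroupOf] at hv
  unfold filB at hfil
  rw [List.all_eq_true] at hfil
  have hf1 := hfil o ho
  rw [Bool.and_eq_true, decide_eq_true_eq, decide_eq_true_eq] at hf1
  obtain ⟨c, -, hvc⟩ := orbit_coords FG.setup ho hf1.1 hf1.2 hv
  have h5 : (g : GL D.Idx K) * (v : GL D.Idx K) * (g : GL D.Idx K)⁻¹ = (v : GL D.Idx K) := by
    rw [mul_inv_eq_iff_eq_mul]
    exact congrArg Subtype.val hc
  rw [hvc, lprod_conj (χ := χ) c (fun s hs t => hg s (hlt s hs) t)] at h5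
  have h6 := inj_orbit FG.setup ho hf1.2 h5
  have h7 : ∀ s ∈ o, c s = 0 := by
    intro s hs
    by_contra hcs
    exact h s hs (mul_right_cancel₀ hcs ((h6 s hs).trans (one_mul _).symm))
  apply Subtype.ext
  rw [hvc]
  have h8 : ∀ {o' : List ℕ}, (∀ s ∈ o', c s = 0) → lprod (xG (F := K) hp.inList) o' c = 1 := by
    intro o'
    induction o' with
    | nil => intro _; rfl
    | cons s o' ih =>
      intro h9
      rw [lprod_cons, h9 s List.mem_cons_self, xG_zero, one_mul]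
      exact ih fun s' hs' => h9 s' (List.mem_cons_of_mem _ hs')
  exact h8 h7

theorem conj_of_TE (FG : FoldGrp hp K J L σ ρ ρ' f G) {g : ↥G} {χ : ℕ → K} (hg : TE hp (g : GL D.Idx K) χ)
    {o : List ℕ} (hlt : ∀ k ∈ o, k < D.nroots) : ∀ v ∈ Rc hp σ G o, g * v * g⁻¹ ∈ Rc hp σ G o := by
  intro v hv
  rw [mem_subgroupOf] at hv ⊢
  refine ⟨?_, ?_⟩
  · have key : rspan (xG (F := K) hp.inList) {k | k ∈ o} ≤
        (rspan (xG (F := K) hp.inList) {k | k ∈ o}).comap (MulAut.conj (g : GL D.Idx K)).toMonoidHom := by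
      refine rspan_le _ fun s hs t => ?_
      have e : (MulAut.conj (g : GL D.Idx K)).toMonoidHom (xG hp.inList s t) = xG hp.inList s (χ s * t) :=
        hg s (hlt s hs) t
      rw [mem_comap, e]
      exact mem_rspan _ (S := {k | k ∈ o}) hs _
    exact key hv.1
  · have h1 : σ (v : GL D.Idx K) = v := hv.2
    have h2 : σ (g : GL D.Idx K) = g := FG.G_le g.2
    show σ ((g : GL D.Idx K) * v * (g : GL D.Idx K)⁻¹) = (g : GL D.Idx K) * v * (g : GL D.Idx K)⁻¹
    rw [map_mul, map_mul, map_inv, h1, h2]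

/-- the roots of two classes are orthogonal -/
def orthB (D : ChevalleyDatum) (o o' : List ℕ) : Bool :=
  o.all fun r => o'.all fun s => decide (r < D.nroots) && decide (s < D.nroots) && s != r && s != D.neg r &&
    (D.commTerms r s).isEmpty

/-- commuting lifts for commuting root groups -/
theorem lcom_of_TE [Finite K] (FG : FoldGrp hp K J L σ ρ ρ' f G) {g : ↥G} {χ : ℕ → K}
    (hg : TE hp (g : GL D.Idx K) χ) {o o' : List ℕ} (ho' : o' ∈ L) (hfil : filB L = true)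
    (hlt : ∀ k ∈ o, k < D.nroots) (hlt' : ∀ k ∈ o', k < D.nroots)
    (horth : orthB D o o' = true) (h : ∀ k ∈ o, χ k = 1) (h' : ∀ k ∈ o', χ k ≠ 1) :
    LCom (Rc hp σ G o) (Rc hp σ G o') := by
  apply LCom.of_le_commutator
  have hc : ∀ v ∈ Rc hp σ G o', v ∈ centralizer (Rc hp σ G o : Set ↥G) := by
    intro v hv
    rw [mem_centralizer_iff]
    intro w hw
    rw [SetLike.mem_coe, mem_subgroupOf] at hw
    rw [mem_subgroupOf] at hv
    apply Subtype.ext
    show (w : GL D.Idx K) * (v : GL D.Idx K) = (v : GL D.Idx K) * (w : GL D.Idx K)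
    refine comm_rspan (x := xG hp.inList) (S := {k | k ∈ o'}) (fun s hs t => ?_) hv.1
    refine (comm_rspan (x := xG hp.inList) (S := {k | k ∈ o}) (fun r hr u => ?_) hw.1).symm
    have h1 := horth
    unfold orthB at h1
    rw [List.all_eq_true] at h1
    have h2 := h1 r hr
    rw [List.all_eq_true] at h2
    have h3 := h2 s hs
    simp only [Bool.and_eq_true, decide_eq_true_eq, bne_iff_ne, ne_eq, List.isEmpty_iff] at h3
    exact (commute_of_nil hp h3.1.1.1.1 h3.1.1.1.2 h3.1.1.2 h3.1.2 h3.2 u t).symm.eq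
  have hgc : g ∈ centralizer (Rc hp σ G o : Set ↥G) := by
    rw [mem_centralizer_iff]
    intro w hw
    exact (comm_of_TE hg hlt h w hw).symm
  have hfree := free_of_TE FG hg ho' hfil hlt' h'
  intro v hv
  let F : Rc hp σ G o' → Rc hp σ G o' := fun a =>
    ⟨g * a * g⁻¹ * (a : ↥G)⁻¹, mul_mem (conj_of_TE FG hg hlt' _ a.2) (inv_mem a.2)⟩
  have hinj : Function.Injective F := by
    intro a b hab
    have h3 : g * a * g⁻¹ * (a : ↥G)⁻¹ = g * b * g⁻¹ * (b : ↥G)⁻¹ := congrArg Subtype.val hab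
    have h4 : g * ((b : ↥G)⁻¹ * a) * g⁻¹ = (b : ↥G)⁻¹ * a := by
      calc g * ((b : ↥G)⁻¹ * a) * g⁻¹
          = (g * b * g⁻¹)⁻¹ * (g * a * g⁻¹ * (a : ↥G)⁻¹) * a := by group
        _ = (g * b * g⁻¹)⁻¹ * (g * b * g⁻¹ * (b : ↥G)⁻¹) * a := by rw [h3]
        _ = (b : ↥G)⁻¹ * a := by group
    have h6 := hfree ((b : ↥G)⁻¹ * a) (mul_mem (inv_mem b.2) a.2) (mul_inv_eq_iff_eq_mul.1 h4)
    exact Subtype.ext (inv_mul_eq_one.1 h6).symm
  obtain ⟨w, hw⟩ := Finite.surjective_of_injective hinj ⟨v, hv⟩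
  have e : v = ⁅g, (w : ↥G)⁆ := (congrArg Subtype.val hw).symm
  rw [e]
  exact commutator_mem_commutator hgc (hc _ w.2)

/-! ### The theorem -/

variable {W : Type*} [Group W] (cs : CoxeterSystem M W) (h : IsCartan M A)
variable (FD : FoldData D M A J L) (FG : FoldGrp hp K J L σ ρ ρ' f G)

include h FD FG in
/-- **No perfect central extensions by `p`-groups of folded groups.** -/
theorem noCov_of_fold [Finite K] {p : ℕ} [CharP K p] (hfil : filB L = true)
    (hab : ∀ i, AbPre ((R D hp K J σ (sr i)).subgroupOf G))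
    (hfree : ∀ o ∈ L, ∃ g : ↥G, (g : GL D.Idx K) ∈ D.diagonalSubgroup K ∧ ∃ χ : ℕ → K,
      TE hp (g : GL D.Idx K) χ ∧ ∀ k ∈ o, χ k ≠ 1)
    (hind : ∀ o ∈ L, ∀ o' ∈ L, o ≠ o' → LCom (Rc hp σ G o) (Rc hp σ G o') ∨
      ∃ g : ↥G, (g : GL D.Idx K) ∈ D.diagonalSubgroup K ∧ ∃ χ : ℕ → K, TE hp (g : GL D.Idx K) χ ∧
        (∀ k ∈ o, χ k = 1) ∧ ∀ k ∈ o', χ k ≠ 1) : NoCov p ↥G := by
  have hpp : p.Prime := CharP.char_is_prime K p
  have : Fact p.Prime := ⟨hpp⟩
  set cs := M.toCoxeterSystem with hcs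
  have : Finite M.Group := Cfsg.Agent.Nodes.RGDFold.finite_W (hp := hp) cs h FD
  have R0 := Cfsg.Agent.Nodes.RGDFold.rgd cs h FD FG p
  have conv : ∀ {t v : ↥G}, t * v * t⁻¹ = v → t * v = v * t := fun {t v} => mul_inv_eq_iff_eq_mul.1
  have conv' : ∀ {t v : ↥G}, t * v = v * t → t * v * t⁻¹ = v := fun {t v} => mul_inv_eq_iff_eq_mul.2
  have hcl : ∀ x ∈ RGD.Pos cs h, ∃ o ∈ L, (R D hp K J σ x).subgroupOf G = Rc hp σ G o ∧
      (∀ k ∈ o, k < D.nroots) ∧ ∃ r ∈ o, V D J r = x := by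
    intro x hx
    obtain ⟨o, ho, r, hr, hV, h1, h2⟩ := exists_class cs h FD hx hp
    exact ⟨o, ho, by rw [R_eq h1 h2], h2, r, hr, hV⟩
  intro L' _ _ π hd hc
  have hker : IsPGroup p π.ker := IsPGroup.of_card (n := 1) (by rw [hc, pow_one])
  have key : π.ker = ⊥ := by
    refine ker_eq_bot_of_torus R0 hpp
      (GG_eq_top_of_G1 (Cfsg.Agent.Nodes.RGDFold.G1_eq_top cs h FD FG p)) hd hker
      (T₀ := ((D.diagonalSubgroup K ⊓ G).subgroupOf G : Set ↥G)) ?_ ?_ ?_ ?_ ?_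
    · rintro ⟨t, ht⟩ ht1 ⟨s, hs⟩ hs1
      rw [SetLike.mem_coe, mem_subgroupOf] at ht1 hs1
      exact Subtype.ext (Chev.diag_comm hp.inList ht1.1 hs1.1)
    · intro t ht x hx a ha
      rw [← R0.tor x hx.1 t ht]
      exact conj_mem_cj.2 ha
    · intro x hx a b hxa hxb
      exact abPre_all R0 hab hx.1 L' π hd a b hxa hxb
    · intro x hx
      obtain ⟨o, ho, e, hlt, -⟩ := hcl x hx
      obtain ⟨g, hgd, χ, hg, hχ⟩ := hfree o ho
      refine ⟨g, mem_subgroupOf.2 ⟨hgd, g.2⟩, fun a ha he => ?_⟩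
      have ha' : a ∈ Rc hp σ G o := e ▸ ha
      exact free_of_TE FG hg ho hfil hlt hχ a ha' (conv he)
    · intro x hx y hy hxy
      obtain ⟨o, ho, e, hlt, r, hr, hV⟩ := hcl x hx
      obtain ⟨o', ho', e', hlt', r', hr', hV'⟩ := hcl y hy
      have hne : o ≠ o' := by
        rintro rfl
        apply hxy
        rw [← hV, ← hV']
        exact (FD.clsL o ho r' hr' r (hlt r hr)).1 hr
      rcases hind o ho o' ho' hne with h1 | ⟨g, hgd, χ, hg, h1, h2⟩
      · left
        intro a b ha hb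
        exact h1 L' π hd a b (e ▸ ha) (e' ▸ hb)
      · right
        refine ⟨g, mem_subgroupOf.2 ⟨hgd, g.2⟩, fun a ha => ?_, fun b hb he => ?_⟩
        · have ha' : a ∈ Rc hp σ G o := e ▸ ha
          exact conv' (comm_of_TE hg hlt h1 a ha')
        · have hb' : b ∈ Rc hp σ G o' := e' ▸ hb
          exact free_of_TE FG hg ho' hfil hlt' h2 b hb' (conv he)
  rw [key, card_bot] at hc
  exact hpp.one_lt.ne hc

/-! ### Elements of order two of the torus -/

/-- the character of a set of nodes -/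
def cS (D : ChevalleyDatum) {l m : ℕ} (J : Fin m → List (Fin l)) (S : List (Fin m)) (s : ℕ) : ℤ :=
  (S.map fun i => cI D (J i) s).sum

theorem exists_pm (FG : FoldGrp hp K J L σ ρ ρ' f G) {φ : K →+* K}
    (hN : ∀ i, ∃ (r : ℕ) (o : List ℕ), NodeOK D J L ρ i r o ∧ ∀ s ∈ r :: o, ∀ t, f s t = φ t) (S : List (Fin m)) :
    ∃ g : ↥G, (g : GL D.Idx K) ∈ D.diagonalSubgroup K ∧
      TE hp (g : GL D.Idx K) fun s => (-1 : K) ^ cS D J S s := by
  have hm : (-1 : K) ≠ 0 := neg_ne_zero.2 one_ne_zero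
  induction S with
  | nil =>
    refine ⟨1, one_mem _, ?_⟩
    refine TE.one.congr fun s _ => ?_
    show (1 : K) = (-1 : K) ^ (0 : ℤ)
    rw [zpow_zero]
  | cons i S ih =>
    obtain ⟨g, hgd, hg⟩ := ih
    obtain ⟨r, o, N, hf⟩ := hN i
    have h1 : hI hp K (J i) (-1) ∈ G := hI_mem FG N hf (by rw [map_neg, map_one])
    refine ⟨⟨hI hp K (J i) (-1), h1⟩ * g, mul_mem (hI_mem_diag (hp := hp) _ hm) hgd, ?_⟩
    have h2 : TE hp (hI hp K (J i) (-1)) fun s => (-1 : K) ^ cI D (J i) s := fun s hs a => hI_conj _ hm hs a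
    refine (h2.mul hg).congr fun s _ => ?_
    show (-1 : K) ^ cI D (J i) s * (-1 : K) ^ cS D J S s = _
    rw [← zpow_add₀ hm]
    congr 1

theorem neg_one_even {z : ℤ} (h : z % 2 = 0) : (-1 : K) ^ z = 1 := Even.neg_one_zpow (Int.even_iff.2 h)

theorem neg_one_odd (h2 : (2 : K) ≠ 0) {z : ℤ} (h : z % 2 = 1) : (-1 : K) ^ z ≠ 1 := by
  rw [Odd.neg_one_zpow (Int.odd_iff.2 h)]
  intro h0
  apply h2
  linear_combination -h0

/-! ### Commutative preimages -/

/-- the values of the character on an orbit -/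
def Tw (φ : K →+* K) (χ : ℕ → K) : List ℕ → K → Prop
  | [], _ => True
  | s :: o, c => χ s = c ∧ Tw φ χ o (φ c)

theorem yv_conj {g : GL D.Idx K} {χ : ℕ → K} (hg : TE hp g χ) {o : List ℕ} (hlt : ∀ s ∈ o, s < D.nroots) {c : K}
    (hc : Tw φ χ o c) (a : K) : g * yv (xG hp.inList) φ o a * g⁻¹ = yv (xG hp.inList) φ o (c * a) := by
  induction o generalizing c a with
  | nil =>
    show g * 1 * g⁻¹ = 1
    rw [mul_one, mul_inv_cancel]
  | cons s o ih =>
    show g * (xG hp.inList s a * yv (xG hp.inList) φ o (φ a)) * g⁻¹ =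
      xG hp.inList s (c * a) * yv (xG hp.inList) φ o (φ (c * a))
    have e : ∀ x y : GL D.Idx K, g * (x * y) * g⁻¹ = (g * x * g⁻¹) * (g * y * g⁻¹) := by intro x y; group
    rw [e, hg s (hlt s List.mem_cons_self), ih (fun s hs => hlt s (List.mem_cons_of_mem _ hs)) hc.2, hc.1, map_mul]

include FG in
/-- fundamental roots with a parameter field of order at least 5 -/
theorem abPre_node [Finite K] {p : ℕ} [CharP K p] (hp2 : p ≠ 2) (N : NodeOK D J L ρ i r o)
    (hf : ∀ s ∈ r :: o, ∀ t, f s t = φ t) (hq : 4 < Nat.card (Fx φ (o.length + 1)))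
    (hmul : ∀ c : Fx φ (o.length + 1), c ≠ 0 → ∃ g : ↥G, ∃ χ : ℕ → K, TE hp (g : GL D.Idx K) χ ∧
      Tw φ χ (r :: o) (c : K)) :
    AbPre ((R D hp K J σ (sr i)).subgroupOf G) := by
  have : CharP (Fx φ (o.length + 1)) p := inferInstance
  refine AbPre.of_field hp2 hq (fun a => Phi FG N hf (up a)) ?_ ?_ ?_
  · intro a b
    show Phi FG N hf (up (a + b)) = _
    rw [up_add, map_mul]
  · intro c hc
    obtain ⟨g, χ, hg, h1⟩ := hmul c hc
    refine ⟨g, fun a => ?_⟩
    apply Subtype.ext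
    show (g : GL D.Idx K) * ((Phi FG N hf (up a) : ↥G) : GL D.Idx K) * (g : GL D.Idx K)⁻¹ =
      ((Phi FG N hf (up (c * a)) : ↥G) : GL D.Idx K)
    rw [coe_Phi_up, coe_Phi_up, yv_conj hg N.lt h1]
    rfl
  · intro v hv
    obtain ⟨a, ha⟩ := (mem_X_iff FG N hf v).1 hv
    exact ⟨a, ha.symm⟩

include FG in
/-- fundamental roots with a parameter field of order 3 -/
theorem abPre_three (N : NodeOK D J L ρ i r o)
    (hf : ∀ s ∈ r :: o, ∀ t, f s t = φ t) (hq : Nat.card (Fx φ (o.length + 1)) = 3) :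
    AbPre ((R D hp K J σ (sr i)).subgroupOf G) := by
  apply AbPre.of_cyclic
  have h1 : Nat.card ((R D hp K J σ (sr i)).subgroupOf G) = 3 := by
    rw [← hq]
    exact FixedCard.card_of_param (fun v => v ∈ (R D hp K J σ (sr i)).subgroupOf G)
      (fun a => Phi FG N hf (up a)) (Phi_up_injective FG N hf) fun v => by
        rw [mem_X_iff FG N hf v]
        exact ⟨fun ⟨a, ha⟩ => ⟨a, ha.symm⟩, fun ⟨a, ha⟩ => ⟨a, ha.symm⟩⟩
  have : Fact (Nat.Prime 3) := ⟨Nat.prime_three⟩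
  exact isCyclic_of_prime_card h1

end Main

end Cfsg.Agent.H59.FoldP
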